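import Cfsg.Agent.Lib.Cert.L37.Tw
import Cfsg.Agent.Lib.Cert.Lin

set_option autoImplicit false
set_option maxRecDepth 100000

namespace Cfsg.Agent.Ct.L37

open Cfsg.Agent.PC

open Cfsg.Agent.Fi Cfsg.Agent.Ct
def Tf_t : TN := (TN.leaf (nat_lit 0x1462972d3e0c688c8d2c0a4db002686abe29721434f53156771166b874d250cc149b1ca46e2c67d77ab3a709d3aca336165efb6ed544e9d0571b80f4a191a7b79a57d9cb0c47aea890463d8630024a115367203e012db8175b4493c312ee98e4240e852d96a4618b734461ce0621ddb5567cb38eb16c7c0bca1d925a3dea4204cbd4dda9501e68dfd1ed6a905a5366ead84b2b7882754cb31c1634ad9d10f2466d73837332e146888808101fd94b2e261658e2581a92ba05771d2ac041debed4ca3b59a33577379e21b344c59b215403c8fa522c20406a9a1fd0d1a366cba7bcc3b7dad6256f10cf7754e0724e3099025515e2075e1ab3ac4296491c942e208101666640ab065293559337a0c186f672d1623ea5eb3a59c9de87f8bb13121f585dbd32f46884728c40c2040))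
noncomputable def Tf (i : ℕ) : ℕ := get9 Tf_t (nat_lit 6) (nat_lit 63) i
noncomputable def T (j c : ℕ) : ℕ := Tf (Nat.add (Nat.mul j (nat_lit 57)) c)
noncomputable def p0 : ℕ → ℕ := permE T inv (nat_lit 57) (nat_lit 7)
theorem pp0 : Nat.beq (rng p0 (nat_lit 0) (nat_lit 57)) (nat_lit 0) = true := by decide +kernel
theorem hp : ∀ i < 57, p0 i = 0 := by
  have h := zero_lt_zero p0
  have h := zero_lt_add (a := (nat_lit 0)) (n := (nat_lit 57)) (b := (nat_lit 57)) h pp0 rfl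
  exact h
abbrev pt : ℕ → Fin 57 := (finLab 56).pt
noncomputable def pf : ℕ → Equiv.Perm (Fin 57) := (finLab 56).fam T inv
theorem pr : Reps pt 57 pf T 7 ∧ InvOK pf inv 7 := (finLab 56).reps_fam (by decide +kernel) hp
noncomputable def x1 : ℕ → ℕ := relF T rels
theorem yy0 : Nat.beq (rng x1 (nat_lit 0) (nat_lit 57)) (nat_lit 0) = true := by decide +kernel
theorem hy : ∀ i < 57, x1 i = 0 := by
  have h := zero_lt_zero x1
  have h := zero_lt_add (a := (nat_lit 0)) (n := (nat_lit 57)) (b := (nat_lit 57)) h yy0 rfl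
  exact h
theorem rl0 : ∀ w ∈ rels, ev pf w = 1 := rel_of_tab (finLab 56).surj pr.1 (by decide +kernel) hy
abbrev P : Type := ↥(gen pf 7)
noncomputable def al : ℕ → P := PC.sub (gen pf 7) pf
theorem rp : Reps pt 57 al T 7 := (pr.1.mono (by decide)).sub le_rfl
theorem top : gen al 7 = ⊤ := gen_sub_top rfl
def W0_t : TL := (TL.node (TL.node (TL.node (TL.leaf [nat_lit 5, nat_lit 4, nat_lit 1, nat_lit 4, nat_lit 2, nat_lit 4, nat_lit 0]) (TL.leaf [nat_lit 4, nat_lit 6, nat_lit 1, nat_lit 5, nat_lit 2, nat_lit 4, nat_lit 3, nat_lit 4, nat_lit 3, nat_lit 3, nat_lit 5, nat_lit 4])) (TL.leaf [nat_lit 2, nat_lit 5, nat_lit 3, nat_lit 6, nat_lit 5, nat_lit 2, nat_lit 6, nat_lit 4, nat_lit 6, nat_lit 1, nat_lit 6, nat_lit 5, nat_lit 6, nat_lit 0, nat_lit 1, nat_lit 6, nat_lit 5])) (TL.node (TL.leaf [nat_lit 2, nat_lit 4, nat_lit 5, nat_lit 4, nat_lit 3]) (TL.leaf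 [nat_lit 3, nat_lit 6, nat_lit 3, nat_lit 0, nat_lit 5, nat_lit 4, nat_lit 1, nat_lit 4, nat_lit 3, nat_lit 6, nat_lit 0, nat_lit 5, nat_lit 0, nat_lit 2])))
noncomputable def W0 (i : ℕ) : List ℕ := TL.get W0_t i
def Q0f_t : TN := (TN.leaf (nat_lit 0x3544d25c652964bac281622761d0eaa80b1c07dc030b2038298df6d35b3190daf9f8132ad7b4550f99e695a706c2110d4bce2300207aec2525658039c6bee29eb4e859d384cdc5c917a233df99acb746a505636756059c95213528d709787982421e97c111b9a742e2d280ecdd6a2a9118d0edad65cf2b7b24874336163c5cbc0b2619664a420b6ebf0e076253ddde951a89cc4e56784d8f4a91d5e909497ca87db08bcd322bd85103301002677b5791f421d8670ca78695af48cda0b632c671ea28f46c27075bbc34ce7a0cd6494ba2966148135040))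
noncomputable def Q0f (i : ℕ) : ℕ := get9 Q0f_t (nat_lit 6) (nat_lit 63) i
noncomputable def Q0 (j c : ℕ) : ℕ := Q0f (Nat.add (Nat.mul j (nat_lit 57)) c)
noncomputable def q0 (j : ℕ) : P := ev al (W0 j)
noncomputable def c0 : ℕ → ℕ := tabE T Q0 W0 (nat_lit 5)
theorem cc0 : Nat.beq (rng c0 (nat_lit 0) (nat_lit 57)) (nat_lit 0) = true := by decide +kernel
theorem hc : ∀ i < 57, c0 i = 0 := by
  have h := zero_lt_zero c0
  have h := zero_lt_add (a := (nat_lit 0)) (n := (nat_lit 57)) (b := (nat_lit 57)) h cc0 rfl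
  exact h
def CV0_t : TN := (TN.leaf (nat_lit 0x227118a09228586508e38a881889baa48a84da6d98d991b62865a4a89205227218e08e969ba8c0606e48dc))
noncomputable def CV0 (i : ℕ) : ℕ := get9 CV0_t (nat_lit 6) (nat_lit 63) i
def CV1_t : TN := (TN.leaf (nat_lit 0x206e0422adb691aeb2e8aa2a296e1c29a6066189a8d3a23a2aa988636d2822829ae1623868aa803089a8c1))
noncomputable def CV1 (i : ℕ) : ℕ := get9 CV1_t (nat_lit 6) (nat_lit 63) i
def CV2_t : TN := (TN.leaf (nat_lit 0x2a459c2902aa71858aa0aaa820c0a6004b0c22c61ab20198a8a38680a68c31a2801aa8083281001a821040))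
noncomputable def CV2 (i : ℕ) : ℕ := get9 CV2_t (nat_lit 6) (nat_lit 63) i
def CV3_t : TN := (TN.leaf (nat_lit 0x8000a00000028000810010000000000000800000018000018030000000000000009000000000000001000))
noncomputable def CV3 (i : ℕ) : ℕ := get9 CV3_t (nat_lit 6) (nat_lit 63) i
noncomputable def l0 : Lev := ⟨(nat_lit 5), (nat_lit 57), (nat_lit 4), CV0⟩
noncomputable def lt : List Lev := [⟨(nat_lit 0), (nat_lit 56), (nat_lit 3), CV1⟩, ⟨(nat_lit 1), (nat_lit 49), (nat_lit 2), CV2⟩, ⟨(nat_lit 2), (nat_lit 12), (nat_lit 0), CV3⟩]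
theorem ch : Ch pt 57 q0 Q0 5 8 (l0 :: lt) :=
  ⟨(finLab 56).inj, reps_tabs (rp) (by decide +kernel) hc, by decide +kernel, cardLE_sub (ub7 pr.2 rl0)⟩
def SO_t : TN := (TN.leaf (nat_lit 0x2aaaaaaaaaaaaaaaaaaaaaaaaa6aa))
noncomputable def SO (i : ℕ) : ℕ := get9 SO_t (nat_lit 2) (nat_lit 3) i
def SV_t : TN := (TN.leaf (nat_lit 0x206e0422adb691aeb2e8aa2a296e1c29a6066189a8d3a23a2aa988636d2822829ae1623868aa807089a8c1))
noncomputable def SV (i : ℕ) : ℕ := get9 SV_t (nat_lit 6) (nat_lit 63) i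
def rt (i : ℕ) : ℕ := Nat.land (Nat.shiftRight (nat_lit 40) (Nat.mul (nat_lit 3) i)) (nat_lit 7)
def sz (i : ℕ) : ℕ := Nat.land (Nat.shiftRight (nat_lit 229440) (Nat.mul (nat_lit 6) i)) (nat_lit 63)
noncomputable def s0 : ℕ → ℕ := soE Q0 (nat_lit 4) (nat_lit 57) (nat_lit 8) (nat_lit 2) SV SO rt
theorem ss0 : Nat.beq (rng s0 (nat_lit 0) (nat_lit 57)) (nat_lit 0) = true := by decide +kernel
theorem hs : ∀ i < 57, s0 i = 0 := by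
  have h := zero_lt_zero s0
  have h := zero_lt_add (a := (nat_lit 0)) (n := (nat_lit 57)) (b := (nat_lit 57)) h ss0 rfl
  exact h
theorem hsz : ∀ i ≤ 2, 1 ≤ i → cnt SO i 57 = sz i := by decide +kernel
theorem coatom : IsCoatom (MulAction.stabilizer P (pt 5)) :=
  ch.coatom (by decide +kernel) hs sz hsz (k0 := 1) (by decide +kernel) (by decide +kernel)
def B0 : List ℕ := [nat_lit 5, nat_lit 0, nat_lit 1, nat_lit 2]
theorem md0 : Md pt 57 B0 al T 7 := ch.md (rp) rfl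
theorem card : Nat.card P = 1876896 := ch.card
instance : Finite P := ch.fin
def W1_t : TL := (TL.node (TL.node (TL.node (TL.node (TL.leaf [nat_lit 0]) (TL.leaf [nat_lit 0, nat_lit 4, nat_lit 3, nat_lit 4, nat_lit 5, nat_lit 3, nat_lit 0, nat_lit 4, nat_lit 6, nat_lit 2, nat_lit 5, nat_lit 0, nat_lit 1, nat_lit 4])) (TL.leaf [nat_lit 4])) (TL.node (TL.leaf [nat_lit 2]) (TL.leaf [nat_lit 6]))) (TL.node (TL.node (TL.leaf [nat_lit 1]) (TL.leaf [nat_lit 5])) (TL.node (TL.leaf [nat_lit 3]) (TL.leaf [nat_lit 3, nat_lit 6, nat_lit 3, nat_lit 0, nat_lit 1, nat_lit 4, nat_lit 5, nat_lit 2, nat_lit 4, nat_lit 1, nat_lit 4, nat_lit 5, nat_lit 4, nat_lit 6]))))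
noncomputable def W1 (i : ℕ) : List ℕ := TL.get W1_t i
def Q1f_t : TN := (TN.node (TN.leaf (nat_lit 0x296422b2655e7c1ad1a302457474ad6c6db3694a4bd0c865d720e7df834f8178ee38061ca82c644c812fdd3acfb3004475471fd8a5b4b490b296e34c0c04456a49e61b581ba075732294b1398a97e19be242378b85462972d3e0c688c8d2c0a4db002686abe29721434f53156771166b874d250cc149b1ca46e2c67d77ab3a709d3aca336165efb6ed544e9d0571b80f4a191a7b79a57d9cb0c47aea890463d8630024a115367203e012db8175b4493c312ee98e4240e852d96a4618b734461ce0621ddb5567cb38eb16c7c0bca1d925a3dea4204cbd4dda9501e68dfd1ed6a905a5366ead84b2b7882754cb31c1634ad9d10f2466d73837332e146888808101fd94b2e261658e2581a92ba05771d2ac041debed4ca3b59a33577379e21b344c59b215403c8fa522c20406a9a1fd0d1a366cba7bcc3b7dad6256f10cf7754e0724e3099025515e2075e1ab3ac4296491c942e208101666640ab065293559337a0c186f672d1623ea5eb3a59c9de87f8bb13121f585dbd32f46884728c40c2040))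 (TN.leaf (nat_lit 25)))
noncomputable def Q1f (i : ℕ) : ℕ := get9 Q1f_t (nat_lit 6) (nat_lit 63) i
noncomputable def Q1 (j c : ℕ) : ℕ := Q1f (Nat.add (Nat.mul j (nat_lit 57)) c)
def V1_t : TL := (TL.node (TL.node (TL.node (TL.leaf [nat_lit 8, nat_lit 8, nat_lit 8, nat_lit 8, nat_lit 8, nat_lit 8, nat_lit 8, nat_lit 8, nat_lit 8, nat_lit 8, nat_lit 8, nat_lit 8, nat_lit 8, nat_lit 8, nat_lit 8, nat_lit 8, nat_lit 8, nat_lit 8, nat_lit 8, nat_lit 8, nat_lit 8, nat_lit 8, nat_lit 8, nat_lit 8, nat_lit 8, nat_lit 8, nat_lit 8, nat_lit 8, nat_lit 8, nat_lit 8, nat_lit 8, nat_lit 8, nat_lit 8, nat_lit 8, nat_lit 8, nat_lit 8, nat_lit 7, nat_lit 8, nat_lit 7, nat_lit 8, nat_lit 7, nat_lit 8, nat_lit 7, nat_lit 8, nat_lit 7, nat_lit 7, nat_lit 7, nat_lit 7, nat_lit 7, nat_lit 7, nat_lit 7, nat_lit 7, nat_lit 7, nat_lit 7, nat_lit 7, nat_lit 7, nat_lit 7, nat_lit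 7, nat_lit 7, nat_lit 7, nat_lit 7, nat_lit 7, nat_lit 8, nat_lit 7, nat_lit 7, nat_lit 7, nat_lit 7, nat_lit 7, nat_lit 7, nat_lit 7, nat_lit 7, nat_lit 7, nat_lit 7, nat_lit 7, nat_lit 7, nat_lit 7, nat_lit 7, nat_lit 7, nat_lit 7, nat_lit 7, nat_lit 7, nat_lit 7, nat_lit 7, nat_lit 7, nat_lit 7, nat_lit 7, nat_lit 7, nat_lit 7, nat_lit 7, nat_lit 7, nat_lit 7, nat_lit 7, nat_lit 7, nat_lit 7, nat_lit 7, nat_lit 7, nat_lit 7, nat_lit 7, nat_lit 7, nat_lit 7, nat_lit 7, nat_lit 7, nat_lit 7, nat_lit 7, nat_lit 7, nat_lit 7, nat_lit 7, nat_lit 7, nat_lit 7, nat_lit 7, nat_lit 7, nat_lit 7, nat_lit 7, nat_lit 7, nat_lit 7, nat_lit 7, nat_lit 7, nat_lit 8, nat_lit 7, nat_lit 7, nat_lit 7, nat_lit 7, nat_lit 7, nat_lit 7, nat_lit 7, nat_lit 7, nat_lit 7, nat_lit 7, nat_lit 7, nat_lit 7, nat_lit 7, nat_lit 7, nat_lit 7, nat_lit 7, nat_lit 7, nat_lit 7,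 nat_lit 8, nat_lit 8, nat_lit 8, nat_lit 8, nat_lit 8, nat_lit 8, nat_lit 8, nat_lit 8, nat_lit 8, nat_lit 8, nat_lit 8, nat_lit 8, nat_lit 8, nat_lit 8, nat_lit 8, nat_lit 8, nat_lit 8, nat_lit 8, nat_lit 7, nat_lit 7, nat_lit 7, nat_lit 7, nat_lit 7, nat_lit 7, nat_lit 7, nat_lit 7, nat_lit 7, nat_lit 7, nat_lit 7, nat_lit 7, nat_lit 7, nat_lit 7, nat_lit 7, nat_lit 7, nat_lit 7, nat_lit 7, nat_lit 7, nat_lit 7, nat_lit 7, nat_lit 7, nat_lit 7, nat_lit 7, nat_lit 7, nat_lit 7, nat_lit 7, nat_lit 7, nat_lit 7, nat_lit 7, nat_lit 7, nat_lit 7, nat_lit 7, nat_lit 7, nat_lit 7, nat_lit 7, nat_lit 8, nat_lit 7, nat_lit 7, nat_lit 7, nat_lit 7, nat_lit 7, nat_lit 7, nat_lit 7, nat_lit 7, nat_lit 7, nat_lit 7, nat_lit 7, nat_lit 7, nat_lit 7, nat_lit 7, nat_lit 7, nat_lit 7, nat_lit 7, nat_lit 7, nat_lit 8, nat_lit 8, nat_lit 8, nat_lit 8, nat_lit 8, nat_lit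 8, nat_lit 8, nat_lit 8, nat_lit 8, nat_lit 8, nat_lit 8, nat_lit 8, nat_lit 8, nat_lit 8, nat_lit 8, nat_lit 8, nat_lit 8, nat_lit 8, nat_lit 7]) (TL.leaf [nat_lit 8, nat_lit 8, nat_lit 8, nat_lit 8, nat_lit 8, nat_lit 8, nat_lit 8, nat_lit 8, nat_lit 8, nat_lit 8, nat_lit 8, nat_lit 8, nat_lit 8, nat_lit 8, nat_lit 8, nat_lit 8, nat_lit 8, nat_lit 8, nat_lit 7, nat_lit 7, nat_lit 7, nat_lit 7, nat_lit 7, nat_lit 7, nat_lit 7, nat_lit 7, nat_lit 7, nat_lit 7, nat_lit 7, nat_lit 7, nat_lit 7, nat_lit 7, nat_lit 7, nat_lit 7, nat_lit 7, nat_lit 7, nat_lit 8, nat_lit 8, nat_lit 8, nat_lit 8, nat_lit 8, nat_lit 8, nat_lit 8, nat_lit 8, nat_lit 8, nat_lit 8, nat_lit 8, nat_lit 8, nat_lit 8, nat_lit 8, nat_lit 8, nat_lit 8, nat_lit 8, nat_lit 8, nat_lit 7, nat_lit 7, nat_lit 7, nat_lit 7, nat_lit 7, nat_lit 7, nat_lit 7, nat_lit 7, nat_lit 7, nat_lit 7,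 nat_lit 7, nat_lit 7, nat_lit 7, nat_lit 7, nat_lit 7, nat_lit 7, nat_lit 7, nat_lit 7, nat_lit 8, nat_lit 8, nat_lit 8, nat_lit 8, nat_lit 8, nat_lit 8, nat_lit 8, nat_lit 8, nat_lit 8, nat_lit 8, nat_lit 8, nat_lit 8, nat_lit 8, nat_lit 8, nat_lit 8, nat_lit 8, nat_lit 8, nat_lit 8, nat_lit 7, nat_lit 8, nat_lit 8, nat_lit 8, nat_lit 8, nat_lit 8, nat_lit 8, nat_lit 8, nat_lit 8, nat_lit 8, nat_lit 8, nat_lit 8, nat_lit 8, nat_lit 8, nat_lit 8, nat_lit 8, nat_lit 8, nat_lit 8, nat_lit 8, nat_lit 8, nat_lit 8, nat_lit 8, nat_lit 8, nat_lit 8, nat_lit 8, nat_lit 8, nat_lit 8, nat_lit 8, nat_lit 8, nat_lit 8, nat_lit 8, nat_lit 8, nat_lit 8, nat_lit 8, nat_lit 8, nat_lit 8, nat_lit 8, nat_lit 7, nat_lit 7, nat_lit 7, nat_lit 7, nat_lit 7, nat_lit 7, nat_lit 7, nat_lit 7, nat_lit 7, nat_lit 7, nat_lit 7, nat_lit 7, nat_lit 7, nat_lit 7, nat_lit 7, nat_lit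 7, nat_lit 7, nat_lit 7, nat_lit 8, nat_lit 8, nat_lit 7, nat_lit 8, nat_lit 8, nat_lit 8, nat_lit 8, nat_lit 8, nat_lit 8, nat_lit 8, nat_lit 8, nat_lit 8, nat_lit 8, nat_lit 8, nat_lit 8, nat_lit 8, nat_lit 8, nat_lit 8, nat_lit 8, nat_lit 8, nat_lit 8, nat_lit 7, nat_lit 7, nat_lit 7, nat_lit 7, nat_lit 7, nat_lit 7, nat_lit 7, nat_lit 7, nat_lit 7, nat_lit 7, nat_lit 7, nat_lit 7, nat_lit 7, nat_lit 7, nat_lit 7, nat_lit 7, nat_lit 7, nat_lit 7, nat_lit 8, nat_lit 8, nat_lit 8, nat_lit 8, nat_lit 8, nat_lit 8, nat_lit 8, nat_lit 8, nat_lit 8, nat_lit 8, nat_lit 8, nat_lit 8, nat_lit 8, nat_lit 8, nat_lit 8, nat_lit 8, nat_lit 8, nat_lit 8, nat_lit 7, nat_lit 8, nat_lit 8, nat_lit 8, nat_lit 7, nat_lit 8, nat_lit 8, nat_lit 7, nat_lit 7, nat_lit 7, nat_lit 7, nat_lit 7, nat_lit 7, nat_lit 7, nat_lit 7, nat_lit 7, nat_lit 7, nat_lit 7, nat_lit 7,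 nat_lit 7, nat_lit 7, nat_lit 7, nat_lit 7, nat_lit 7, nat_lit 7, nat_lit 7, nat_lit 7, nat_lit 7, nat_lit 7, nat_lit 7, nat_lit 7, nat_lit 7, nat_lit 7, nat_lit 7, nat_lit 7, nat_lit 7, nat_lit 7, nat_lit 7, nat_lit 7, nat_lit 7, nat_lit 7, nat_lit 7, nat_lit 7])) (TL.node (TL.leaf [nat_lit 7, nat_lit 7, nat_lit 7, nat_lit 7, nat_lit 7, nat_lit 7, nat_lit 7, nat_lit 7, nat_lit 7, nat_lit 7, nat_lit 7, nat_lit 7, nat_lit 7, nat_lit 7, nat_lit 7, nat_lit 7, nat_lit 7, nat_lit 7, nat_lit 7, nat_lit 7, nat_lit 7, nat_lit 7, nat_lit 7, nat_lit 7, nat_lit 7, nat_lit 7, nat_lit 7, nat_lit 7, nat_lit 7, nat_lit 7, nat_lit 7, nat_lit 7, nat_lit 7, nat_lit 7, nat_lit 7, nat_lit 7, nat_lit 7, nat_lit 7, nat_lit 7, nat_lit 7, nat_lit 7, nat_lit 7, nat_lit 7, nat_lit 7, nat_lit 7, nat_lit 7, nat_lit 7, nat_lit 7, nat_lit 7, nat_lit 7, nat_lit 7, nat_lit 7, nat_lit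 7, nat_lit 7, nat_lit 7, nat_lit 7, nat_lit 7, nat_lit 7, nat_lit 7, nat_lit 7, nat_lit 7, nat_lit 7, nat_lit 7, nat_lit 7, nat_lit 7, nat_lit 7, nat_lit 7, nat_lit 7, nat_lit 7, nat_lit 7, nat_lit 7, nat_lit 7, nat_lit 8, nat_lit 7, nat_lit 7, nat_lit 7, nat_lit 7, nat_lit 7, nat_lit 7, nat_lit 7, nat_lit 7, nat_lit 7, nat_lit 7, nat_lit 7, nat_lit 7, nat_lit 7, nat_lit 7, nat_lit 7, nat_lit 7, nat_lit 7, nat_lit 7, nat_lit 7, nat_lit 7, nat_lit 7, nat_lit 7, nat_lit 7, nat_lit 7, nat_lit 7, nat_lit 7, nat_lit 7, nat_lit 7, nat_lit 7, nat_lit 7, nat_lit 7, nat_lit 7, nat_lit 7, nat_lit 7, nat_lit 7, nat_lit 7, nat_lit 8, nat_lit 8, nat_lit 8, nat_lit 8, nat_lit 8, nat_lit 8, nat_lit 8, nat_lit 8, nat_lit 8, nat_lit 8, nat_lit 8, nat_lit 8, nat_lit 8, nat_lit 8, nat_lit 8, nat_lit 8, nat_lit 8, nat_lit 8, nat_lit 8, nat_lit 8, nat_lit 8, nat_lit 8,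 nat_lit 8, nat_lit 8, nat_lit 8, nat_lit 8, nat_lit 8, nat_lit 8, nat_lit 8, nat_lit 8, nat_lit 8, nat_lit 8, nat_lit 8, nat_lit 8, nat_lit 8, nat_lit 8, nat_lit 7, nat_lit 8, nat_lit 8, nat_lit 8, nat_lit 8, nat_lit 8, nat_lit 8, nat_lit 8, nat_lit 8, nat_lit 8, nat_lit 8, nat_lit 8, nat_lit 8, nat_lit 8, nat_lit 8, nat_lit 8, nat_lit 8, nat_lit 8, nat_lit 8, nat_lit 7, nat_lit 8, nat_lit 8, nat_lit 8, nat_lit 8, nat_lit 8, nat_lit 8, nat_lit 8, nat_lit 8, nat_lit 8, nat_lit 8, nat_lit 8, nat_lit 8, nat_lit 8, nat_lit 8, nat_lit 8, nat_lit 8, nat_lit 8, nat_lit 8, nat_lit 7, nat_lit 7, nat_lit 7, nat_lit 7, nat_lit 7, nat_lit 7, nat_lit 7, nat_lit 7, nat_lit 7, nat_lit 7, nat_lit 7, nat_lit 7, nat_lit 7, nat_lit 7, nat_lit 7, nat_lit 7, nat_lit 7, nat_lit 7, nat_lit 8, nat_lit 8, nat_lit 8, nat_lit 8, nat_lit 8, nat_lit 8, nat_lit 8, nat_lit 8, nat_lit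 8, nat_lit 8, nat_lit 8, nat_lit 8, nat_lit 8, nat_lit 8, nat_lit 8, nat_lit 8, nat_lit 8, nat_lit 8, nat_lit 7]) (TL.leaf [nat_lit 8, nat_lit 8, nat_lit 8, nat_lit 8, nat_lit 8, nat_lit 8, nat_lit 8, nat_lit 8, nat_lit 8, nat_lit 8, nat_lit 8, nat_lit 8, nat_lit 8, nat_lit 8, nat_lit 8, nat_lit 8, nat_lit 8, nat_lit 8, nat_lit 7, nat_lit 7, nat_lit 8, nat_lit 7, nat_lit 8, nat_lit 8, nat_lit 8, nat_lit 8, nat_lit 8, nat_lit 8, nat_lit 8, nat_lit 8, nat_lit 8, nat_lit 8, nat_lit 8, nat_lit 8, nat_lit 8, nat_lit 8, nat_lit 8, nat_lit 8, nat_lit 8, nat_lit 8, nat_lit 7, nat_lit 8, nat_lit 7, nat_lit 8, nat_lit 8, nat_lit 8, nat_lit 8, nat_lit 8, nat_lit 8, nat_lit 8, nat_lit 8, nat_lit 8, nat_lit 8, nat_lit 8, nat_lit 8, nat_lit 8, nat_lit 8, nat_lit 8, nat_lit 8, nat_lit 8, nat_lit 8, nat_lit 7, nat_lit 7, nat_lit 8, nat_lit 8, nat_lit 8, nat_lit 8,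 nat_lit 8, nat_lit 8, nat_lit 8, nat_lit 8, nat_lit 8, nat_lit 8, nat_lit 8, nat_lit 8, nat_lit 8, nat_lit 8, nat_lit 8, nat_lit 8, nat_lit 8, nat_lit 8, nat_lit 7, nat_lit 7, nat_lit 7, nat_lit 7, nat_lit 7, nat_lit 7, nat_lit 7, nat_lit 7, nat_lit 7, nat_lit 7, nat_lit 7, nat_lit 7, nat_lit 7, nat_lit 7, nat_lit 7, nat_lit 7, nat_lit 7, nat_lit 7, nat_lit 7, nat_lit 7, nat_lit 7, nat_lit 7, nat_lit 7, nat_lit 7, nat_lit 7, nat_lit 7, nat_lit 7, nat_lit 7, nat_lit 7, nat_lit 7, nat_lit 7, nat_lit 7, nat_lit 7, nat_lit 7, nat_lit 7, nat_lit 7]))) (TL.node (TL.node (TL.leaf [nat_lit 8, nat_lit 7, nat_lit 8, nat_lit 7, nat_lit 7, nat_lit 7, nat_lit 7, nat_lit 7, nat_lit 7, nat_lit 7, nat_lit 7, nat_lit 7, nat_lit 7, nat_lit 7, nat_lit 7, nat_lit 7, nat_lit 7, nat_lit 7, nat_lit 7, nat_lit 7, nat_lit 7, nat_lit 7, nat_lit 7, nat_lit 7, nat_lit 7, nat_lit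 7, nat_lit 7, nat_lit 7, nat_lit 7, nat_lit 7, nat_lit 7, nat_lit 7, nat_lit 7, nat_lit 7, nat_lit 7, nat_lit 7, nat_lit 7, nat_lit 7, nat_lit 7, nat_lit 8, nat_lit 8, nat_lit 8, nat_lit 8, nat_lit 8, nat_lit 8, nat_lit 8, nat_lit 8, nat_lit 8, nat_lit 8, nat_lit 8, nat_lit 8, nat_lit 8, nat_lit 8, nat_lit 8, nat_lit 8, nat_lit 8, nat_lit 8, nat_lit 8, nat_lit 8, nat_lit 8, nat_lit 8, nat_lit 8, nat_lit 8, nat_lit 8, nat_lit 8, nat_lit 8, nat_lit 8, nat_lit 8, nat_lit 8, nat_lit 8, nat_lit 8, nat_lit 8, nat_lit 8, nat_lit 8, nat_lit 8, nat_lit 7, nat_lit 7, nat_lit 7, nat_lit 7, nat_lit 7, nat_lit 7, nat_lit 7, nat_lit 7, nat_lit 7, nat_lit 7, nat_lit 7, nat_lit 7, nat_lit 7, nat_lit 7, nat_lit 7, nat_lit 7, nat_lit 7, nat_lit 7, nat_lit 8, nat_lit 7, nat_lit 8, nat_lit 7, nat_lit 7, nat_lit 7, nat_lit 7, nat_lit 7, nat_lit 7, nat_lit 7, nat_lit 7,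 nat_lit 7, nat_lit 7, nat_lit 7, nat_lit 7, nat_lit 7, nat_lit 7, nat_lit 7, nat_lit 7, nat_lit 7, nat_lit 7, nat_lit 8, nat_lit 8, nat_lit 8, nat_lit 8, nat_lit 8, nat_lit 8, nat_lit 8, nat_lit 8, nat_lit 8, nat_lit 8, nat_lit 8, nat_lit 8, nat_lit 8, nat_lit 8, nat_lit 8, nat_lit 8, nat_lit 8, nat_lit 8, nat_lit 7, nat_lit 8, nat_lit 8, nat_lit 8, nat_lit 7, nat_lit 8, nat_lit 7, nat_lit 8, nat_lit 7, nat_lit 8, nat_lit 7]) (TL.leaf [nat_lit 8, nat_lit 8, nat_lit 8, nat_lit 8, nat_lit 8, nat_lit 8, nat_lit 8, nat_lit 8, nat_lit 8, nat_lit 8, nat_lit 8, nat_lit 8, nat_lit 8, nat_lit 8, nat_lit 8, nat_lit 8, nat_lit 8, nat_lit 8, nat_lit 7, nat_lit 7, nat_lit 7, nat_lit 7, nat_lit 7, nat_lit 7, nat_lit 7, nat_lit 7, nat_lit 7, nat_lit 7, nat_lit 7, nat_lit 7, nat_lit 7, nat_lit 7, nat_lit 7, nat_lit 7, nat_lit 7, nat_lit 7, nat_lit 8, nat_lit 7, nat_lit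 8, nat_lit 8, nat_lit 8, nat_lit 8, nat_lit 8, nat_lit 8, nat_lit 8, nat_lit 8, nat_lit 8, nat_lit 8, nat_lit 8, nat_lit 8, nat_lit 8, nat_lit 8, nat_lit 8, nat_lit 8, nat_lit 8, nat_lit 8, nat_lit 8, nat_lit 8, nat_lit 8, nat_lit 8, nat_lit 8, nat_lit 8, nat_lit 8, nat_lit 8, nat_lit 8, nat_lit 8, nat_lit 8, nat_lit 8, nat_lit 8, nat_lit 8, nat_lit 8, nat_lit 8, nat_lit 8, nat_lit 8, nat_lit 8, nat_lit 8, nat_lit 8, nat_lit 8, nat_lit 8, nat_lit 8, nat_lit 8, nat_lit 8, nat_lit 8, nat_lit 8, nat_lit 8, nat_lit 8, nat_lit 8, nat_lit 8, nat_lit 8, nat_lit 8, nat_lit 8, nat_lit 8, nat_lit 7, nat_lit 7, nat_lit 7, nat_lit 7, nat_lit 7, nat_lit 7, nat_lit 7, nat_lit 7, nat_lit 7, nat_lit 7, nat_lit 7, nat_lit 7, nat_lit 7, nat_lit 7, nat_lit 7, nat_lit 7, nat_lit 7, nat_lit 7, nat_lit 8, nat_lit 8, nat_lit 8, nat_lit 8, nat_lit 8, nat_lit 8, nat_lit 8,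 nat_lit 8, nat_lit 8, nat_lit 8, nat_lit 8, nat_lit 8, nat_lit 8, nat_lit 8, nat_lit 8, nat_lit 8, nat_lit 8, nat_lit 8, nat_lit 7, nat_lit 7, nat_lit 7, nat_lit 7, nat_lit 7, nat_lit 7, nat_lit 7, nat_lit 7, nat_lit 7, nat_lit 7, nat_lit 7, nat_lit 7, nat_lit 7, nat_lit 7, nat_lit 7, nat_lit 7, nat_lit 7, nat_lit 7, nat_lit 8, nat_lit 8, nat_lit 8, nat_lit 8, nat_lit 8, nat_lit 8, nat_lit 8, nat_lit 8, nat_lit 8, nat_lit 8, nat_lit 8, nat_lit 8, nat_lit 8, nat_lit 8, nat_lit 8, nat_lit 8, nat_lit 8, nat_lit 8, nat_lit 8, nat_lit 8, nat_lit 8, nat_lit 8, nat_lit 8, nat_lit 8, nat_lit 8, nat_lit 8, nat_lit 8, nat_lit 8, nat_lit 8, nat_lit 8, nat_lit 8, nat_lit 8, nat_lit 8, nat_lit 8, nat_lit 8, nat_lit 8, nat_lit 7, nat_lit 7, nat_lit 7, nat_lit 7, nat_lit 7, nat_lit 7, nat_lit 7, nat_lit 7, nat_lit 7, nat_lit 7, nat_lit 7, nat_lit 7, nat_lit 7, nat_lit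 7, nat_lit 7, nat_lit 7, nat_lit 7, nat_lit 7, nat_lit 8, nat_lit 8, nat_lit 8, nat_lit 8, nat_lit 8, nat_lit 8, nat_lit 8, nat_lit 8, nat_lit 8, nat_lit 8, nat_lit 8, nat_lit 8, nat_lit 8, nat_lit 8, nat_lit 8, nat_lit 8, nat_lit 8, nat_lit 8, nat_lit 7, nat_lit 8, nat_lit 8, nat_lit 8, nat_lit 8, nat_lit 8, nat_lit 8, nat_lit 8, nat_lit 8, nat_lit 8, nat_lit 8, nat_lit 8, nat_lit 8, nat_lit 8, nat_lit 8, nat_lit 8, nat_lit 8, nat_lit 8, nat_lit 8, nat_lit 7, nat_lit 8, nat_lit 8, nat_lit 8, nat_lit 8, nat_lit 8, nat_lit 8, nat_lit 8, nat_lit 8, nat_lit 8, nat_lit 8, nat_lit 8, nat_lit 8, nat_lit 8, nat_lit 8, nat_lit 8, nat_lit 8, nat_lit 8, nat_lit 8, nat_lit 7, nat_lit 8, nat_lit 8, nat_lit 8])) (TL.leaf [nat_lit 8, nat_lit 8, nat_lit 8, nat_lit 8, nat_lit 8, nat_lit 8, nat_lit 8, nat_lit 8, nat_lit 8, nat_lit 8, nat_lit 8, nat_lit 8, nat_lit 8,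 nat_lit 8, nat_lit 8, nat_lit 8, nat_lit 8, nat_lit 8, nat_lit 7, nat_lit 7, nat_lit 7, nat_lit 7, nat_lit 7, nat_lit 7, nat_lit 7, nat_lit 7, nat_lit 7, nat_lit 7, nat_lit 7, nat_lit 7, nat_lit 7, nat_lit 7, nat_lit 7, nat_lit 7, nat_lit 7, nat_lit 7, nat_lit 8, nat_lit 8, nat_lit 8, nat_lit 8, nat_lit 8, nat_lit 8, nat_lit 8, nat_lit 8, nat_lit 8, nat_lit 8, nat_lit 8, nat_lit 8, nat_lit 8, nat_lit 8, nat_lit 8, nat_lit 8, nat_lit 8, nat_lit 8, nat_lit 7, nat_lit 7, nat_lit 7, nat_lit 7, nat_lit 7, nat_lit 7, nat_lit 7, nat_lit 7, nat_lit 7, nat_lit 7, nat_lit 7, nat_lit 7, nat_lit 7, nat_lit 7, nat_lit 7, nat_lit 7, nat_lit 7, nat_lit 7, nat_lit 8, nat_lit 8, nat_lit 8, nat_lit 8, nat_lit 8, nat_lit 8, nat_lit 8, nat_lit 8, nat_lit 8, nat_lit 8, nat_lit 8, nat_lit 8, nat_lit 8, nat_lit 8, nat_lit 8, nat_lit 8, nat_lit 8, nat_lit 8, nat_lit 7, nat_lit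 8, nat_lit 8, nat_lit 8, nat_lit 8, nat_lit 8, nat_lit 8, nat_lit 8, nat_lit 8, nat_lit 8, nat_lit 8, nat_lit 8, nat_lit 8, nat_lit 8, nat_lit 8, nat_lit 8, nat_lit 8, nat_lit 8, nat_lit 8, nat_lit 8, nat_lit 8, nat_lit 8, nat_lit 8, nat_lit 8, nat_lit 8, nat_lit 8, nat_lit 8, nat_lit 8, nat_lit 8, nat_lit 8, nat_lit 8, nat_lit 8, nat_lit 8, nat_lit 8, nat_lit 8, nat_lit 8, nat_lit 8, nat_lit 7, nat_lit 7, nat_lit 7, nat_lit 7, nat_lit 7, nat_lit 7, nat_lit 7, nat_lit 7, nat_lit 7, nat_lit 7, nat_lit 7, nat_lit 7, nat_lit 7, nat_lit 7, nat_lit 7, nat_lit 7, nat_lit 7, nat_lit 7, nat_lit 8, nat_lit 8, nat_lit 8, nat_lit 7, nat_lit 8, nat_lit 8, nat_lit 7, nat_lit 7, nat_lit 7, nat_lit 7, nat_lit 7, nat_lit 7, nat_lit 7, nat_lit 7, nat_lit 7, nat_lit 7, nat_lit 7, nat_lit 7, nat_lit 7, nat_lit 7, nat_lit 7, nat_lit 7, nat_lit 7, nat_lit 7, nat_lit 8,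 nat_lit 7, nat_lit 8, nat_lit 8, nat_lit 8, nat_lit 8, nat_lit 8, nat_lit 8, nat_lit 8, nat_lit 8, nat_lit 8, nat_lit 8, nat_lit 8, nat_lit 8, nat_lit 8, nat_lit 8, nat_lit 8, nat_lit 8, nat_lit 8, nat_lit 8, nat_lit 7, nat_lit 7, nat_lit 7, nat_lit 8])))
noncomputable def V1 (i : ℕ) : List ℕ := TL.get V1_t i
noncomputable def e1 : ℕ → ℕ := tabE T Q1 W1 (nat_lit 9)
theorem ee0 : Nat.beq (rng e1 (nat_lit 0) (nat_lit 57)) (nat_lit 0) = true := by decide +kernel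
theorem he : ∀ i < 57, e1 i = 0 := by
  have h := zero_lt_zero e1
  have h := zero_lt_add (a := (nat_lit 0)) (n := (nat_lit 57)) (b := (nat_lit 57)) h ee0 rfl
  exact h
theorem md1 : Md pt 57 B0 (fun j => ev al (W1 j)) Q1 9 := md0.words (by decide +kernel) he
instance simple : IsSimpleGroup P := ch.simple rfl coatom (p := 19) (md1.ord le_rfl (a := ([nat_lit 7], 19)) (by decide +kernel)).2.1
  (by decide +kernel) (md0.ncl (top) md1 (x := 7) (y := 8) [nat_lit 4, nat_lit 2, nat_lit 0, nat_lit 6, nat_lit 4, nat_lit 1] V1 (by decide +kernel))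
theorem ctr : Subgroup.center P = ⊥ := ctr_bot card (by norm_num) (by decide)
theorem iv : InvOK al inv 7 := pr.2.sub le_rfl
theorem rl : ∀ w ∈ rels, ev al w = 1 := rels_sub (by decide +kernel) rl0
theorem ub : Ub inv rels 7 (Nat.card P) := fun _ _ _ h1 h2 => card ▸ ub7 h1 h2

end Cfsg.Agent.Ct.L37
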