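import Cfsg.Agent.Lib.Cert.Mod
import Cfsg.Agent.Lib.PermCert.PL

set_option autoImplicit false
set_option maxRecDepth 100000

namespace Cfsg.Agent.Ct.L37

open Cfsg.Agent.PC

open Cfsg.Agent.Fi Cfsg.Agent.Ct
namespace L1
def t0x : TN := (TN.leaf (nat_lit 337))
def tt : TN := (TN.node (TN.node (TN.node (TN.node t0x (TN.leaf (nat_lit 0))) (TN.node (TN.leaf (nat_lit 0)) (TN.leaf (nat_lit 0)))) (TN.node (TN.node (TN.leaf (nat_lit 0)) (TN.leaf (nat_lit 0))) (TN.node (TN.leaf (nat_lit 0)) (TN.leaf (nat_lit 0))))) (TN.node (TN.node (TN.node (TN.leaf (nat_lit 0)) (TN.leaf (nat_lit 0))) (TN.node (TN.leaf (nat_lit 0)) (TN.leaf (nat_lit 0)))) (TN.node (TN.node (TN.leaf (nat_lit 0)) (TN.leaf (nat_lit 0))) (TN.node (TN.leaf (nat_lit 0)) (TN.leaf (nat_lit 0))))))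
noncomputable def T (j c : ℕ) : ℕ := getL tt (nat_lit 5) (nat_lit 1) j c
noncomputable def E (j c : ℕ) : ℕ := getL tt (nat_lit 5) (nat_lit 31) j c
theorem T_eq (j c : ℕ) : T j c = E j c % 2 :=
  getL_mod (a := 1) (b := 5) _ _ (by norm_num) (by norm_num) (by norm_num) (by norm_num) j c
def rels : List (List ℕ) := []
def X_t : TN := (TN.leaf (nat_lit 0))
noncomputable def X (i : ℕ) : ℕ := get9 X_t (nat_lit 1) (nat_lit 1) i
def Jp_t : TN := (TN.leaf (nat_lit 0))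
noncomputable def Jp (i : ℕ) : ℕ := get9 Jp_t (nat_lit 1) (nat_lit 1) i
def J_t : TN := (TN.leaf (nat_lit 0))
noncomputable def J (k : ℕ) : ℕ := getV J_t Jp k
def Pa_t : TN := (TN.leaf (nat_lit 2048))
noncomputable def Pa (i : ℕ) : ℕ := get9 Pa_t (nat_lit 6) (nat_lit 63) i
def W_t : TL := (TL.leaf [])
noncomputable def W (i : ℕ) : List ℕ := TL.get W_t i
def WA_t : TL := (TL.leaf [nat_lit 0])
noncomputable def WA (i : ℕ) : List ℕ := TL.get WA_t i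
noncomputable def row : ℕ → ℕ := hRow (nat_lit 1) (nat_lit 1) (nat_lit 0) (nat_lit 2) (nat_lit 4) (nat_lit 8) (nat_lit 32) (nat_lit 32) (nat_lit 0) E X Pa (fun j => j) (wfun (nat_lit 0) W_t)
noncomputable def aux : ℕ → ℕ := hAux (nat_lit 2) (nat_lit 1) (nat_lit 2) (nat_lit 8) (nat_lit 32) (nat_lit 2) (nat_lit 2) (nat_lit 32) (nat_lit 0) E X J Pa (fun j => j) WA_t.get
theorem r0 : Nat.beq (rng row (nat_lit 0) (nat_lit 2)) (nat_lit 0) = true := by decide +kernel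
theorem rows : ∀ i < 2, row i = 0 := by
  have h := zero_lt_zero row
  have h := zero_lt_add (a := (nat_lit 0)) (n := (nat_lit 2)) (b := (nat_lit 2)) h r0 rfl
  exact h
theorem auxs : ∀ i < 0, aux i = 0 := by
  have h := zero_lt_zero aux
  exact h
theorem closes.{u} : ClosesT.{u} (fun j => j) rels 1 0 2 T :=
  hc_closes (N1 := (nat_lit 1)) rfl T_eq (by decide +kernel) rows auxs
theorem T_inv : ∀ c < 2, ∀ j < 1, T j c < 2 ∧ T j (T j c) = c := 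
  hc_inv (inv := (fun j => j)) (N1 := (nat_lit 1)) rfl T_eq rows
end L1

namespace L2
def t0x : TN := (TN.leaf (nat_lit 0x8b6246ada266488))
def t1x : TN := (TN.leaf (nat_lit 0x80e026f5b422101))
def t2x : TN := (TN.leaf (nat_lit 0x225952219341102))
def t3x : TN := (TN.leaf (nat_lit 0x810898088841503))
def tt : TN := (TN.node (TN.node (TN.node (TN.node t0x (TN.leaf (nat_lit 0))) (TN.node (TN.leaf (nat_lit 0)) (TN.leaf (nat_lit 0)))) (TN.node (TN.node t2x (TN.leaf (nat_lit 0))) (TN.node (TN.leaf (nat_lit 0)) (TN.leaf (nat_lit 0))))) (TN.node (TN.node (TN.node t1x (TN.leaf (nat_lit 0))) (TN.node (TN.leaf (nat_lit 0)) (TN.leaf (nat_lit 0)))) (TN.node (TN.node t3x (TN.leaf (nat_lit 0))) (TN.node (TN.leaf (nat_lit 0)) (TN.leaf (nat_lit 0))))))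
noncomputable def T (j c : ℕ) : ℕ := getL tt (nat_lit 10) (nat_lit 7) j c
noncomputable def E (j c : ℕ) : ℕ := getL tt (nat_lit 10) (nat_lit 1023) j c
theorem T_eq (j c : ℕ) : T j c = E j c % 8 :=
  getL_mod (a := 3) (b := 10) _ _ (by norm_num) (by norm_num) (by norm_num) (by norm_num) j c
def rels : List (List ℕ) := [[nat_lit 2, nat_lit 2, nat_lit 2], [nat_lit 0, nat_lit 1, nat_lit 0, nat_lit 1], [nat_lit 2, nat_lit 0, nat_lit 3, nat_lit 0], [nat_lit 2, nat_lit 1, nat_lit 3, nat_lit 1]]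
def inv (i : ℕ) : ℕ := Nat.land (Nat.shiftRight (nat_lit 17608) (Nat.mul (nat_lit 3) i)) (nat_lit 7)
def X_t : TN := (TN.leaf (nat_lit 0))
noncomputable def X (i : ℕ) : ℕ := get9 X_t (nat_lit 1) (nat_lit 1) i
def Jp_t : TN := (TN.leaf (nat_lit 0))
noncomputable def Jp (i : ℕ) : ℕ := get9 Jp_t (nat_lit 1) (nat_lit 1) i
def J_t : TN := (TN.leaf (nat_lit 0))
noncomputable def J (k : ℕ) : ℕ := getV J_t Jp k
def Pa_t : TN := (TN.leaf (nat_lit 0x225134120d0200))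
noncomputable def Pa (i : ℕ) : ℕ := get9 Pa_t (nat_lit 9) (nat_lit 511) i
def W_t : TL := (TL.node (TL.node (TL.node (TL.leaf [nat_lit 2, nat_lit 2, nat_lit 3, nat_lit 3]) (TL.leaf [nat_lit 6147, nat_lit 1, nat_lit 3, nat_lit 1, nat_lit 2])) (TL.leaf [nat_lit 4099, nat_lit 0, nat_lit 3, nat_lit 0, nat_lit 2])) (TL.node (TL.node (TL.leaf [nat_lit 2049, nat_lit 0, nat_lit 1, nat_lit 0, nat_lit 1]) (TL.leaf [nat_lit 6151, nat_lit 1, nat_lit 2, nat_lit 1, nat_lit 3])) (TL.leaf [nat_lit 4103, nat_lit 0, nat_lit 2, nat_lit 0, nat_lit 3])))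
noncomputable def W (i : ℕ) : List ℕ := TL.get W_t i
def WA_t : TL := (TL.leaf [nat_lit 0])
noncomputable def WA (i : ℕ) : List ℕ := TL.get WA_t i
noncomputable def row : ℕ → ℕ := hRow (nat_lit 5) (nat_lit 4) (nat_lit 1) (nat_lit 8) (nat_lit 16) (nat_lit 128) (nat_lit 128) (nat_lit 128) (nat_lit 0) E X Pa inv (wfun (nat_lit 6) W_t)
noncomputable def aux : ℕ → ℕ := hAux (nat_lit 6) (nat_lit 4) (nat_lit 8) (nat_lit 128) (nat_lit 128) (nat_lit 2) (nat_lit 2) (nat_lit 128) (nat_lit 0) E X J Pa inv WA_t.get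
theorem r0 : Nat.beq (rng row (nat_lit 0) (nat_lit 6)) (nat_lit 0) = true := by decide +kernel
theorem rows : ∀ i < 6, row i = 0 := by
  have h := zero_lt_zero row
  have h := zero_lt_add (a := (nat_lit 0)) (n := (nat_lit 6)) (b := (nat_lit 6)) h r0 rfl
  exact h
theorem auxs : ∀ i < 0, aux i = 0 := by
  have h := zero_lt_zero aux
  exact h
theorem closes.{u} : ClosesT.{u} inv rels 4 1 6 T :=
  hc_closes (N1 := (nat_lit 5)) rfl T_eq (by decide +kernel) rows auxs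
theorem T_inv : ∀ c < 6, ∀ j < 4, T j c < 6 ∧ T (inv j) (T j c) = c := 
  hc_inv (inv := inv) (N1 := (nat_lit 5)) rfl T_eq rows
end L2

namespace L3
def t0x : TN := (TN.leaf (nat_lit 0x2970292f78296820501e2016201570ee78250853581f712808522163212220e1616d5226492c4018281a084d215c200e391d084c196b192a0849102710241a11280b280a1a99101b10172150210f10142005200420031948190718c6084110020840))
def t1x : TN := (TN.leaf (nat_lit 0x202320220860402920192816281539ed7024682663e7085269a819f019af0851102e3813400e2817084d301a2bdb19ac084c219d21eb21aa200934df102510212008200739de101c1018200520041a5419d0198f084219cb198a0841100610030840))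
def t2x : TN := (TN.leaf (nat_lit 0x86118b07827085f481b085418ab085318a970250852342e68ad085118a3102f38a65f24084d189e20173818084c189a102c280e08491896102a10282ba0102208461890345c101d10190843188b101508421888100f08411885100a100710040840))
def t3x : TN := (TN.leaf (nat_lit 0x202f0861382570240858202a085420280853752e40206d27601f2022085110303012102d201d084d380e46ac2019084c351b1adc20150849102b102910261023200f08462317101e101a200a0843101620070842101020040841100b100810051000))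
def t4x : TN := (TN.leaf (nat_lit 0x682e782d6670756f501d8028502578247f6b736748184e6a736948155599581e0850084f56e14b6c401448174016582245e6455b3d9a46233c9c0848084708461020101f084508440843300a2b4b0842101310121011100e100d100c100908401001))
def tt : TN := (TN.node (TN.node (TN.node (TN.node t0x (TN.leaf (nat_lit 0))) (TN.node t4x (TN.leaf (nat_lit 0)))) (TN.node (TN.node t2x (TN.leaf (nat_lit 0))) (TN.node (TN.leaf (nat_lit 0)) (TN.leaf (nat_lit 0))))) (TN.node (TN.node (TN.node t1x (TN.leaf (nat_lit 0))) (TN.node (TN.leaf (nat_lit 0)) (TN.leaf (nat_lit 0)))) (TN.node (TN.node t3x (TN.leaf (nat_lit 0))) (TN.node (TN.leaf (nat_lit 0)) (TN.leaf (nat_lit 0))))))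
noncomputable def T (j c : ℕ) : ℕ := getL tt (nat_lit 16) (nat_lit 63) j c
noncomputable def E (j c : ℕ) : ℕ := getL tt (nat_lit 16) (nat_lit 65535) j c
theorem T_eq (j c : ℕ) : T j c = E j c % 64 :=
  getL_mod (a := 6) (b := 16) _ _ (by norm_num) (by norm_num) (by norm_num) (by norm_num) j c
def rels : List (List ℕ) := [[nat_lit 2, nat_lit 2, nat_lit 2], [nat_lit 0, nat_lit 1, nat_lit 0, nat_lit 1], [nat_lit 2, nat_lit 0, nat_lit 3, nat_lit 0], [nat_lit 2, nat_lit 1, nat_lit 3, nat_lit 1], [nat_lit 1, nat_lit 3, nat_lit 4, nat_lit 1, nat_lit 3, nat_lit 4, nat_lit 1, nat_lit 3, nat_lit 4], [nat_lit 4, nat_lit 0, nat_lit 4, nat_lit 1, nat_lit 0, nat_lit 4, nat_lit 0, nat_lit 4, nat_lit 0, nat_lit 1], [nat_lit 4, nat_lit 3, nat_lit 4, nat_lit 0, nat_lit 3, nat_lit 4, nat_lit 1, nat_lit 4, nat_lit 0, nat_lit 3, nat_lit 1]]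
def inv (i : ℕ) : ℕ := Nat.land (Nat.shiftRight (nat_lit 181448) (Nat.mul (nat_lit 3) i)) (nat_lit 7)
def X_t : TN := (TN.leaf (nat_lit 0))
noncomputable def X (i : ℕ) : ℕ := get9 X_t (nat_lit 1) (nat_lit 1) i
def Jp_t : TN := (TN.leaf (nat_lit 0))
noncomputable def Jp (i : ℕ) : ℕ := get9 Jp_t (nat_lit 1) (nat_lit 1) i
def J_t : TN := (TN.leaf (nat_lit 0))
noncomputable def J (k : ℕ) : ℕ := getV J_t Jp k
def Pa_t : TN := (TN.leaf (nat_lit 0x1a12d09e8073e5583aa1550ea65533a98548aa43520a89544ea23504a7a434a1a70d1868430a1870c1860424a12709084241d20c9062831b151888c3461930cd848c22611b085024813408a040808000))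
noncomputable def Pa (i : ℕ) : ℕ := get9 Pa_t (nat_lit 13) (nat_lit 8191) i
def W_t : TL := (TL.node (TL.node (TL.node (TL.node (TL.node (TL.leaf [nat_lit 2, nat_lit 2, nat_lit 3, nat_lit 3]) (TL.leaf [nat_lit 12299, nat_lit 4, nat_lit 1, nat_lit 4, nat_lit 0, nat_lit 3, nat_lit 1, nat_lit 4, nat_lit 3, nat_lit 4, nat_lit 0, nat_lit 3])) (TL.node (TL.leaf [nat_lit 12304, nat_lit 0, nat_lit 4, nat_lit 2, nat_lit 4, nat_lit 1, nat_lit 2, nat_lit 0, nat_lit 4, nat_lit 1, nat_lit 4, nat_lit 2]) (TL.leaf [nat_lit 1, nat_lit 3, nat_lit 2, nat_lit 2]))) (TL.node (TL.node (TL.leaf [nat_lit 6147, nat_lit 1, nat_lit 3, nat_lit 1, nat_lit 2]) (TL.leaf [nat_lit 12306, nat_lit 4, nat_lit 2, nat_lit 4, nat_lit 1, nat_lit 2, nat_lit 0, nat_lit 4, nat_lit 1, nat_lit 4, nat_lit 2, nat_lit 0])) (TL.leaf [nat_lit 12291, nat_lit 2, nat_lit 4, nat_lit 0, nat_lit 3, nat_lit 4, nat_lit 1, nat_lit 4,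 nat_lit 0, nat_lit 3, nat_lit 1, nat_lit 4]))) (TL.node (TL.node (TL.node (TL.leaf [nat_lit 4099, nat_lit 0, nat_lit 3, nat_lit 0, nat_lit 2]) (TL.leaf [nat_lit 6145, nat_lit 3, nat_lit 1, nat_lit 3, nat_lit 1])) (TL.node (TL.leaf [nat_lit 4097, nat_lit 3, nat_lit 0, nat_lit 3, nat_lit 0]) (TL.leaf [nat_lit 4101, nat_lit 2, nat_lit 0, nat_lit 2, nat_lit 0]))) (TL.node (TL.node (TL.leaf [nat_lit 10243, nat_lit 0, nat_lit 4, nat_lit 1, nat_lit 0, nat_lit 4, nat_lit 0, nat_lit 4, nat_lit 0, nat_lit 1, nat_lit 4]) (TL.leaf [nat_lit 12293, nat_lit 4, nat_lit 0, nat_lit 3, nat_lit 4, nat_lit 1, nat_lit 4, nat_lit 0, nat_lit 3, nat_lit 1, nat_lit 4, nat_lit 3])) (TL.leaf [nat_lit 6149, nat_lit 2, nat_lit 1, nat_lit 2, nat_lit 1])))) (TL.node (TL.node (TL.node (TL.node (TL.leaf [nat_lit 2049, nat_lit 0, nat_lit 1, nat_lit 0, nat_lit 1]) (TL.leaf [nat_lit 12301, nat_lit 1, nat_lit 4, nat_lit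 0, nat_lit 3, nat_lit 1, nat_lit 4, nat_lit 3, nat_lit 4, nat_lit 0, nat_lit 3, nat_lit 4])) (TL.node (TL.leaf [nat_lit 12292, nat_lit 3, nat_lit 0, nat_lit 4, nat_lit 1, nat_lit 4, nat_lit 2, nat_lit 0, nat_lit 4, nat_lit 2, nat_lit 4, nat_lit 1]) (TL.leaf [nat_lit 12300, nat_lit 4, nat_lit 2, nat_lit 0, nat_lit 4, nat_lit 2, nat_lit 4, nat_lit 1, nat_lit 2, nat_lit 0, nat_lit 4, nat_lit 1]))) (TL.node (TL.node (TL.leaf [nat_lit 6151, nat_lit 1, nat_lit 2, nat_lit 1, nat_lit 3]) (TL.leaf [nat_lit 12310, nat_lit 4, nat_lit 1, nat_lit 2, nat_lit 0, nat_lit 4, nat_lit 1, nat_lit 4, nat_lit 2, nat_lit 0, nat_lit 4, nat_lit 2])) (TL.leaf [nat_lit 2051, nat_lit 1, nat_lit 0, nat_lit 1, nat_lit 0]))) (TL.node (TL.node (TL.node (TL.leaf [nat_lit 4103, nat_lit 0, nat_lit 2, nat_lit 0, nat_lit 3]) (TL.leaf [nat_lit 10251, nat_lit 4, nat_lit 0, nat_lit 4, nat_lit 0, nat_lit 1, nat_lit 4,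 nat_lit 0, nat_lit 4, nat_lit 1, nat_lit 0])) (TL.node (TL.leaf [nat_lit 8197, nat_lit 4, nat_lit 1, nat_lit 3, nat_lit 4, nat_lit 1, nat_lit 3, nat_lit 4, nat_lit 1, nat_lit 3]) (TL.leaf [nat_lit 10245, nat_lit 4, nat_lit 1, nat_lit 0, nat_lit 4, nat_lit 0, nat_lit 4, nat_lit 0, nat_lit 1, nat_lit 4, nat_lit 0]))) (TL.node (TL.node (TL.leaf [nat_lit 10259, nat_lit 1, nat_lit 4, nat_lit 0, nat_lit 4, nat_lit 1, nat_lit 0, nat_lit 4, nat_lit 0, nat_lit 4, nat_lit 0]) (TL.leaf [nat_lit 12296, nat_lit 4, nat_lit 1, nat_lit 4, nat_lit 2, nat_lit 0, nat_lit 4, nat_lit 2, nat_lit 4, nat_lit 1, nat_lit 2, nat_lit 0])) (TL.leaf [nat_lit 8195, nat_lit 2, nat_lit 4, nat_lit 1, nat_lit 3, nat_lit 4, nat_lit 1, nat_lit 3, nat_lit 4, nat_lit 1])))))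
noncomputable def W (i : ℕ) : List ℕ := TL.get W_t i
def WA_t : TL := (TL.leaf [nat_lit 0])
noncomputable def WA (i : ℕ) : List ℕ := TL.get WA_t i
noncomputable def row : ℕ → ℕ := hRow (nat_lit 48) (nat_lit 5) (nat_lit 4) (nat_lit 64) (nat_lit 32) (nat_lit 2048) (nat_lit 1024) (nat_lit 1024) (nat_lit 0) E X Pa inv (wfun (nat_lit 28) W_t)
noncomputable def aux : ℕ → ℕ := hAux (nat_lit 49) (nat_lit 5) (nat_lit 64) (nat_lit 2048) (nat_lit 1024) (nat_lit 2) (nat_lit 2) (nat_lit 1024) (nat_lit 0) E X J Pa inv WA_t.get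
theorem r0 : Nat.beq (rng row (nat_lit 0) (nat_lit 49)) (nat_lit 0) = true := by decide +kernel
theorem rows : ∀ i < 49, row i = 0 := by
  have h := zero_lt_zero row
  have h := zero_lt_add (a := (nat_lit 0)) (n := (nat_lit 49)) (b := (nat_lit 49)) h r0 rfl
  exact h
theorem auxs : ∀ i < 0, aux i = 0 := by
  have h := zero_lt_zero aux
  exact h
theorem closes.{u} : ClosesT.{u} inv rels 5 4 49 T :=
  hc_closes (N1 := (nat_lit 48)) rfl T_eq (by decide +kernel) rows auxs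
theorem T_inv : ∀ c < 49, ∀ j < 5, T j c < 49 ∧ T (inv j) (T j c) = c := 
  hc_inv (inv := inv) (N1 := (nat_lit 48)) rfl T_eq rows
end L3

namespace L4
def t0x : TN := (TN.leaf (nat_lit 0x7015145dae0641059400e584d6205ce01f2a17c04c4c02e1053c814b50df1d57101b20091004480216da420b19048881c2c01668b804134c030717385d40412c4068545d2ab6ac580a018600a10160c59c624c30e508230cc38403c4155100d14450800a400420018803c6292310818638410440041040))
def t1x : TN := (TN.leaf (nat_lit 0xe8139008de03af033751a04161d163001f4011546baa3db5a2c9013100488023201ae25bc6bac209eb8a418db1d2bc209ce01678d830035c3ead0190825c68a183b82032434bb468080124008a4498c6a863d2104610128808571bc4005100d9c010632a31d40821080406318650a08208801c40061040))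
def t2x : TN := (TN.leaf (nat_lit 0x901284185c0376032082c500a220581056e05b0414c615c7017f01b8414061552bf408278c29e16577e2408270c28f5dde104d1850302c02096309d600c9c2cc406a701a7d38a9e78208e309510168411861242029101308088403e1043100e1423020843089100a080442082308519450802040081040))
def t3x : TN := (TN.leaf (nat_lit 0xef95f40bc20b33028400d565d2002ed01ed810900b420a709718812900a420a13c7220130413e386f8024201104138406c401f0826ac0588038104b6cba9936170b6203332f6080c080281047101710044208c202a10138808c4040600a100e9000c80101042100a8804880081041100608024400a2000))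
def t4x : TN := (TN.leaf (nat_lit 0x830fc0c2604d0023b815d33cb0de3e936082adf2babbdb7e6cb339b00512da1301f800f49bd5003b4d527dba25c70406ee01b96543db9cec4aa0226cf03aa3c801610483acb8411c405eb92ab729d40912018a029780d041142086865119ac84108a0082018100b04104401c43c9100688028400c1040))
def t5x : TN := (TN.leaf (nat_lit 0xf7bbf40bdc03d32346013300b420acd9b0e1db480956764801d082854069604e104f5414ac9ce24dc104e53f1e0e872044b014280db48d4e4d8d39c210fd0ea82090b0110823880c524aaa26008234f4494eb0202b1014080908012600a082114e30659a2019100b8804c648a400319020802c20802001))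
def tt : TN := (TN.node (TN.node (TN.node (TN.node t0x (TN.leaf (nat_lit 0))) (TN.node t4x (TN.leaf (nat_lit 0)))) (TN.node (TN.node t2x (TN.leaf (nat_lit 0))) (TN.node (TN.leaf (nat_lit 0)) (TN.leaf (nat_lit 0))))) (TN.node (TN.node (TN.node t1x (TN.leaf (nat_lit 0))) (TN.node t5x (TN.leaf (nat_lit 0)))) (TN.node (TN.node t3x (TN.leaf (nat_lit 0))) (TN.node (TN.leaf (nat_lit 0)) (TN.leaf (nat_lit 0))))))
noncomputable def T (j c : ℕ) : ℕ := getL tt (nat_lit 17) (nat_lit 63) j c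
noncomputable def E (j c : ℕ) : ℕ := getL tt (nat_lit 17) (nat_lit 131071) j c
theorem T_eq (j c : ℕ) : T j c = E j c % 64 :=
  getL_mod (a := 6) (b := 17) _ _ (by norm_num) (by norm_num) (by norm_num) (by norm_num) j c
def rels : List (List ℕ) := [[nat_lit 2, nat_lit 2, nat_lit 2], [nat_lit 0, nat_lit 1, nat_lit 0, nat_lit 1], [nat_lit 2, nat_lit 0, nat_lit 3, nat_lit 0], [nat_lit 2, nat_lit 1, nat_lit 3, nat_lit 1], [nat_lit 1, nat_lit 3, nat_lit 4, nat_lit 1, nat_lit 3, nat_lit 4, nat_lit 1, nat_lit 3, nat_lit 4], [nat_lit 4, nat_lit 0, nat_lit 4, nat_lit 1, nat_lit 0, nat_lit 4, nat_lit 0, nat_lit 4, nat_lit 0, nat_lit 1], [nat_lit 4, nat_lit 3, nat_lit 4, nat_lit 0, nat_lit 3, nat_lit 4, nat_lit 1, nat_lit 4, nat_lit 0, nat_lit 3, nat_lit 1], [nat_lit 5, nat_lit 1, nat_lit 2, nat_lit 4, nat_lit 0, nat_lit 5, nat_lit 3, nat_lit 1, nat_lit 4, nat_lit 3, nat_lit 4], [nat_lit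 5, nat_lit 1, nat_lit 5, nat_lit 3, nat_lit 5, nat_lit 2], [nat_lit 5, nat_lit 2, nat_lit 4, nat_lit 2, nat_lit 0, nat_lit 5, nat_lit 2, nat_lit 4, nat_lit 0, nat_lit 2], [nat_lit 5, nat_lit 0, nat_lit 3, nat_lit 5, nat_lit 4, nat_lit 1, nat_lit 5, nat_lit 0, nat_lit 2, nat_lit 4, nat_lit 3, nat_lit 0, nat_lit 1], [nat_lit 5, nat_lit 0, nat_lit 5, nat_lit 4, nat_lit 5, nat_lit 3, nat_lit 0, nat_lit 5, nat_lit 0, nat_lit 2, nat_lit 1, nat_lit 4, nat_lit 0, nat_lit 2, nat_lit 4], [nat_lit 5, nat_lit 3, nat_lit 4, nat_lit 0, nat_lit 4, nat_lit 2, nat_lit 5, nat_lit 0, nat_lit 4, nat_lit 0, nat_lit 1, nat_lit 2, nat_lit 4, nat_lit 3]]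
def inv (i : ℕ) : ℕ := Nat.land (Nat.shiftRight (nat_lit 0x1ac4c8) (Nat.mul (nat_lit 3) i)) (nat_lit 7)
def X_t : TN := (TN.leaf (nat_lit 0))
noncomputable def X (i : ℕ) : ℕ := get9 X_t (nat_lit 1) (nat_lit 1) i
def Jp_t : TN := (TN.leaf (nat_lit 0))
noncomputable def Jp (i : ℕ) : ℕ := get9 Jp_t (nat_lit 1) (nat_lit 1) i
def J_t : TN := (TN.leaf (nat_lit 0))
noncomputable def J (k : ℕ) : ℕ := getV J_t Jp k
def Pa_t : TN := (TN.leaf (nat_lit 0xb0a584ab27590ac15606acb562aaa44ca267130882c40a2070f587943ce1e30e5871438e1c30d2869c3421650b3858c2c210b08483ac1d20e5073632b1898c6c616303151868c32612b091844c23610a051024813408a04080a000))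
noncomputable def Pa (i : ℕ) : ℕ := get9 Pa_t (nat_lit 13) (nat_lit 8191) i
def W_t : TL := (TL.node (TL.node (TL.node (TL.node (TL.node (TL.node (TL.leaf [nat_lit 2, nat_lit 2, nat_lit 3, nat_lit 3]) (TL.leaf [nat_lit 16387, nat_lit 1, nat_lit 5, nat_lit 3, nat_lit 5, nat_lit 2, nat_lit 5])) (TL.node (TL.leaf [nat_lit 8193, nat_lit 1, nat_lit 3, nat_lit 4, nat_lit 1, nat_lit 3, nat_lit 4, nat_lit 1, nat_lit 3, nat_lit 4]) (TL.leaf [nat_lit 8194, nat_lit 4, nat_lit 2, nat_lit 1, nat_lit 4, nat_lit 2, nat_lit 1, nat_lit 4, nat_lit 2, nat_lit 1]))) (TL.node (TL.node (TL.leaf [nat_lit 14354, nat_lit 2, nat_lit 1, nat_lit 5, nat_lit 4, nat_lit 2, nat_lit 4, nat_lit 1, nat_lit 2, nat_lit 5, nat_lit 0, nat_lit 4]) (TL.leaf [nat_lit 10255, nat_lit 4, nat_lit 0, nat_lit 1, nat_lit 4, nat_lit 0, nat_lit 4, nat_lit 1, nat_lit 0, nat_lit 4, nat_lit 0])) (TL.node (TL.leaf [nat_lit 20491,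 nat_lit 1, nat_lit 5, nat_lit 0, nat_lit 2, nat_lit 4, nat_lit 3, nat_lit 0, nat_lit 1, nat_lit 5, nat_lit 0, nat_lit 3, nat_lit 5, nat_lit 4]) (TL.leaf [nat_lit 14350, nat_lit 0, nat_lit 4, nat_lit 3, nat_lit 1, nat_lit 5, nat_lit 4, nat_lit 2, nat_lit 4, nat_lit 1, nat_lit 2, nat_lit 5])))) (TL.node (TL.node (TL.node (TL.leaf [nat_lit 6151, nat_lit 1, nat_lit 2, nat_lit 1, nat_lit 3]) (TL.leaf [nat_lit 18433, nat_lit 5, nat_lit 2, nat_lit 4, nat_lit 2, nat_lit 0, nat_lit 5, nat_lit 2, nat_lit 4, nat_lit 0, nat_lit 2])) (TL.node (TL.leaf [nat_lit 22535, nat_lit 4, nat_lit 5, nat_lit 3, nat_lit 0, nat_lit 5, nat_lit 0, nat_lit 2, nat_lit 1, nat_lit 4, nat_lit 0, nat_lit 2, nat_lit 4, nat_lit 5, nat_lit 0, nat_lit 5]) (TL.leaf [nat_lit 10257, nat_lit 0, nat_lit 1, nat_lit 4, nat_lit 0, nat_lit 4, nat_lit 1, nat_lit 0, nat_lit 4, nat_lit 0, nat_lit 4]))) (TL.node (TL.node (TL.leaf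 [nat_lit 16389, nat_lit 5, nat_lit 3, nat_lit 5, nat_lit 2, nat_lit 5, nat_lit 1]) (TL.leaf [nat_lit 24591, nat_lit 0, nat_lit 4, nat_lit 0, nat_lit 1, nat_lit 2, nat_lit 4, nat_lit 3, nat_lit 5, nat_lit 3, nat_lit 4, nat_lit 0, nat_lit 4, nat_lit 2, nat_lit 5])) (TL.leaf [nat_lit 18446, nat_lit 2, nat_lit 4, nat_lit 3, nat_lit 5, nat_lit 3, nat_lit 0, nat_lit 4, nat_lit 3, nat_lit 5, nat_lit 0])))) (TL.node (TL.node (TL.node (TL.node (TL.leaf [nat_lit 4099, nat_lit 0, nat_lit 3, nat_lit 0, nat_lit 2]) (TL.leaf [nat_lit 18437, nat_lit 4, nat_lit 2, nat_lit 0, nat_lit 5, nat_lit 2, nat_lit 4, nat_lit 0, nat_lit 2, nat_lit 5, nat_lit 2])) (TL.node (TL.leaf [nat_lit 14344, nat_lit 1, nat_lit 2, nat_lit 5, nat_lit 0, nat_lit 4, nat_lit 3, nat_lit 1, nat_lit 5, nat_lit 4, nat_lit 2, nat_lit 4]) (TL.leaf [nat_lit 22543, nat_lit 5, nat_lit 0, nat_lit 2, nat_lit 1, nat_lit 4, nat_lit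 0, nat_lit 2, nat_lit 4, nat_lit 5, nat_lit 0, nat_lit 5, nat_lit 4, nat_lit 5, nat_lit 3, nat_lit 0]))) (TL.node (TL.node (TL.leaf [nat_lit 24583, nat_lit 0, nat_lit 4, nat_lit 2, nat_lit 5, nat_lit 0, nat_lit 4, nat_lit 0, nat_lit 1, nat_lit 2, nat_lit 4, nat_lit 3, nat_lit 5, nat_lit 3, nat_lit 4]) (TL.leaf [nat_lit 14349, nat_lit 2, nat_lit 1, nat_lit 4, nat_lit 3, nat_lit 4, nat_lit 5, nat_lit 1, nat_lit 2, nat_lit 4, nat_lit 0, nat_lit 5])) (TL.node (TL.leaf [nat_lit 12293, nat_lit 4, nat_lit 0, nat_lit 3, nat_lit 4, nat_lit 1, nat_lit 4, nat_lit 0, nat_lit 3, nat_lit 1, nat_lit 4, nat_lit 3]) (TL.leaf [nat_lit 18445, nat_lit 3, nat_lit 4, nat_lit 0, nat_lit 2, nat_lit 5, nat_lit 2, nat_lit 4, nat_lit 2, nat_lit 0, nat_lit 5])))) (TL.node (TL.node (TL.node (TL.leaf [nat_lit 16385, nat_lit 5, nat_lit 1, nat_lit 5, nat_lit 3, nat_lit 5, nat_lit 2]) (TL.leaf [nat_lit 2051,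 nat_lit 1, nat_lit 0, nat_lit 1, nat_lit 0])) (TL.node (TL.leaf [nat_lit 10251, nat_lit 4, nat_lit 0, nat_lit 4, nat_lit 0, nat_lit 1, nat_lit 4, nat_lit 0, nat_lit 4, nat_lit 1, nat_lit 0]) (TL.leaf [nat_lit 18434, nat_lit 2, nat_lit 0, nat_lit 4, nat_lit 3, nat_lit 5, nat_lit 0, nat_lit 3, nat_lit 4, nat_lit 3, nat_lit 5]))) (TL.node (TL.node (TL.leaf [nat_lit 10243, nat_lit 0, nat_lit 4, nat_lit 1, nat_lit 0, nat_lit 4, nat_lit 0, nat_lit 4, nat_lit 0, nat_lit 1, nat_lit 4]) (TL.leaf [nat_lit 8196, nat_lit 3, nat_lit 1, nat_lit 4, nat_lit 2, nat_lit 1, nat_lit 4, nat_lit 2, nat_lit 1, nat_lit 4])) (TL.leaf [nat_lit 20493, nat_lit 5, nat_lit 0, nat_lit 2, nat_lit 4, nat_lit 3, nat_lit 0, nat_lit 1, nat_lit 5, nat_lit 0, nat_lit 3, nat_lit 5, nat_lit 4, nat_lit 1]))))) (TL.node (TL.node (TL.node (TL.node (TL.node (TL.leaf [nat_lit 2049, nat_lit 0, nat_lit 1, nat_lit 0, nat_lit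 1]) (TL.leaf [nat_lit 8198, nat_lit 1, nat_lit 4, nat_lit 2, nat_lit 1, nat_lit 4, nat_lit 2, nat_lit 1, nat_lit 4, nat_lit 2])) (TL.node (TL.leaf [nat_lit 18439, nat_lit 3, nat_lit 0, nat_lit 5, nat_lit 2, nat_lit 4, nat_lit 0, nat_lit 2, nat_lit 5, nat_lit 2, nat_lit 4]) (TL.leaf [nat_lit 12299, nat_lit 4, nat_lit 1, nat_lit 4, nat_lit 0, nat_lit 3, nat_lit 1, nat_lit 4, nat_lit 3, nat_lit 4, nat_lit 0, nat_lit 3]))) (TL.node (TL.node (TL.leaf [nat_lit 20500, nat_lit 5, nat_lit 2, nat_lit 0, nat_lit 5, nat_lit 1, nat_lit 0, nat_lit 2, nat_lit 4, nat_lit 3, nat_lit 0, nat_lit 5, nat_lit 1, nat_lit 4]) (TL.leaf [nat_lit 14339, nat_lit 1, nat_lit 2, nat_lit 4, nat_lit 0, nat_lit 5, nat_lit 3, nat_lit 1, nat_lit 4, nat_lit 3, nat_lit 4, nat_lit 5])) (TL.node (TL.leaf [nat_lit 8197, nat_lit 4, nat_lit 1, nat_lit 3, nat_lit 4, nat_lit 1, nat_lit 3, nat_lit 4, nat_lit 1, nat_lit 3])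 (TL.leaf [nat_lit 18440, nat_lit 2, nat_lit 5, nat_lit 0, nat_lit 3, nat_lit 4, nat_lit 3, nat_lit 5, nat_lit 3, nat_lit 0, nat_lit 4])))) (TL.node (TL.node (TL.node (TL.leaf [nat_lit 6147, nat_lit 1, nat_lit 3, nat_lit 1, nat_lit 2]) (TL.leaf [nat_lit 24585, nat_lit 4, nat_lit 2, nat_lit 5, nat_lit 0, nat_lit 4, nat_lit 0, nat_lit 1, nat_lit 2, nat_lit 4, nat_lit 3, nat_lit 5, nat_lit 3, nat_lit 4, nat_lit 0])) (TL.node (TL.leaf [nat_lit 4097, nat_lit 3, nat_lit 0, nat_lit 3, nat_lit 0]) (TL.leaf [nat_lit 14352, nat_lit 4, nat_lit 3, nat_lit 1, nat_lit 5, nat_lit 4, nat_lit 2, nat_lit 4, nat_lit 1, nat_lit 2, nat_lit 5, nat_lit 0]))) (TL.node (TL.node (TL.leaf [nat_lit 18438, nat_lit 4, nat_lit 3, nat_lit 5, nat_lit 0, nat_lit 3, nat_lit 4, nat_lit 3, nat_lit 5, nat_lit 3, nat_lit 0]) (TL.leaf [nat_lit 4101, nat_lit 2, nat_lit 0, nat_lit 2, nat_lit 0])) (TL.leaf [nat_lit 18452,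 nat_lit 5, nat_lit 3, nat_lit 0, nat_lit 4, nat_lit 3, nat_lit 5, nat_lit 0, nat_lit 3, nat_lit 4, nat_lit 3])))) (TL.node (TL.node (TL.node (TL.node (TL.leaf [nat_lit 4103, nat_lit 0, nat_lit 2, nat_lit 0, nat_lit 3]) (TL.leaf [nat_lit 1, nat_lit 3, nat_lit 2, nat_lit 2])) (TL.node (TL.leaf [nat_lit 20504, nat_lit 0, nat_lit 5, nat_lit 1, nat_lit 0, nat_lit 2, nat_lit 4, nat_lit 3, nat_lit 0, nat_lit 5, nat_lit 1, nat_lit 4, nat_lit 5, nat_lit 2]) (TL.leaf [nat_lit 20489, nat_lit 4, nat_lit 1, nat_lit 5, nat_lit 0, nat_lit 2, nat_lit 4, nat_lit 3, nat_lit 0, nat_lit 1, nat_lit 5, nat_lit 0, nat_lit 3, nat_lit 5]))) (TL.node (TL.node (TL.leaf [nat_lit 22552, nat_lit 4, nat_lit 5, nat_lit 0, nat_lit 5, nat_lit 4, nat_lit 3, nat_lit 0, nat_lit 4, nat_lit 1, nat_lit 3, nat_lit 0, nat_lit 5, nat_lit 0, nat_lit 2, nat_lit 5]) (TL.leaf [nat_lit 12289, nat_lit 4, nat_lit 3, nat_lit 4,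 nat_lit 0, nat_lit 3, nat_lit 4, nat_lit 1, nat_lit 4, nat_lit 0, nat_lit 3, nat_lit 1])) (TL.node (TL.leaf [nat_lit 20487, nat_lit 5, nat_lit 4, nat_lit 1, nat_lit 5, nat_lit 0, nat_lit 2, nat_lit 4, nat_lit 3, nat_lit 0, nat_lit 1, nat_lit 5, nat_lit 0, nat_lit 3]) (TL.leaf [nat_lit 14337, nat_lit 5, nat_lit 1, nat_lit 2, nat_lit 4, nat_lit 0, nat_lit 5, nat_lit 3, nat_lit 1, nat_lit 4, nat_lit 3, nat_lit 4])))) (TL.node (TL.node (TL.node (TL.leaf [nat_lit 16393, nat_lit 5, nat_lit 2, nat_lit 5, nat_lit 1, nat_lit 5, nat_lit 3]) (TL.leaf [nat_lit 16391, nat_lit 2, nat_lit 5, nat_lit 2, nat_lit 5, nat_lit 1, nat_lit 5])) (TL.node (TL.leaf [nat_lit 12310, nat_lit 4, nat_lit 1, nat_lit 2, nat_lit 0, nat_lit 4, nat_lit 1, nat_lit 4, nat_lit 2, nat_lit 0, nat_lit 4, nat_lit 2]) (TL.leaf [nat_lit 24593, nat_lit 4, nat_lit 0, nat_lit 1, nat_lit 2, nat_lit 4, nat_lit 3, nat_lit 5, nat_lit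 3, nat_lit 4, nat_lit 0, nat_lit 4, nat_lit 2, nat_lit 5, nat_lit 0]))) (TL.node (TL.node (TL.leaf [nat_lit 22534, nat_lit 0, nat_lit 4, nat_lit 1, nat_lit 3, nat_lit 0, nat_lit 5, nat_lit 0, nat_lit 2, nat_lit 5, nat_lit 4, nat_lit 5, nat_lit 0, nat_lit 5, nat_lit 4, nat_lit 3]) (TL.leaf [nat_lit 6145, nat_lit 3, nat_lit 1, nat_lit 3, nat_lit 1])) (TL.leaf [nat_lit 16395, nat_lit 3, nat_lit 5, nat_lit 1, nat_lit 5, nat_lit 3, nat_lit 5]))))))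
noncomputable def W (i : ℕ) : List ℕ := TL.get W_t i
def WA_t : TL := (TL.leaf [nat_lit 0])
noncomputable def WA (i : ℕ) : List ℕ := TL.get WA_t i
noncomputable def row : ℕ → ℕ := hRow (nat_lit 55) (nat_lit 6) (nat_lit 5) (nat_lit 64) (nat_lit 64) (nat_lit 4096) (nat_lit 1024) (nat_lit 1024) (nat_lit 0) E X Pa inv (wfun (nat_lit 60) W_t)
noncomputable def aux : ℕ → ℕ := hAux (nat_lit 56) (nat_lit 6) (nat_lit 64) (nat_lit 4096) (nat_lit 1024) (nat_lit 2) (nat_lit 2) (nat_lit 1024) (nat_lit 0) E X J Pa inv WA_t.get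
theorem r0 : Nat.beq (rng row (nat_lit 0) (nat_lit 56)) (nat_lit 0) = true := by decide +kernel
theorem rows : ∀ i < 56, row i = 0 := by
  have h := zero_lt_zero row
  have h := zero_lt_add (a := (nat_lit 0)) (n := (nat_lit 56)) (b := (nat_lit 56)) h r0 rfl
  exact h
theorem auxs : ∀ i < 0, aux i = 0 := by
  have h := zero_lt_zero aux
  exact h
theorem closes.{u} : ClosesT.{u} inv rels 6 5 56 T :=
  hc_closes (N1 := (nat_lit 55)) rfl T_eq (by decide +kernel) rows auxs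
theorem T_inv : ∀ c < 56, ∀ j < 6, T j c < 56 ∧ T (inv j) (T j c) = c := 
  hc_inv (inv := inv) (N1 := (nat_lit 55)) rfl T_eq rows
end L4

namespace L5
def t0x : TN := (TN.leaf (nat_lit 0x4d4781005113ada701a4c135868e6e05c8400c2e0295c03aecca977568801410026f00b960b806137040a2a006410282d0e449a465005410262201a4403c8047d67578a00e1401a805813093061313c0160811c93310612c0c1d6081182013840253561e20570408d840213962e200144002080030802c1004830a5061090c19008104200102040))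
def t1x : TN := (TN.leaf (nat_lit 0x400333036f000b6701a4c1b57e770f0091100fae1f03403ad80a9f39b2e025040a4d1cb8b0f4961a82d14e3805560d63b27255f46a00653010248a14036268060c4978800a100122003136711879e0408e8002c60d30a0100408c100aca3c88845424e1e200144002063da3d12c1877030cd820420802e1004c30e70618d0408210020200182040))
def t2x : TN := (TN.leaf (nat_lit 0x5003260061280ce60178205d88048d80b4c010ac0277005d2c2d6901c180225804ac02d01028860a90806e4004d300c9cbb61804650048a00b0204b0c140700696855020480c1385005d44d59600c3533c100c410230609518020100b02014040262401e0810c3047120070803e0810830450401b08030100501020860850801a10024200202040))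
def t3x : TN := (TN.leaf (nat_lit 0x5156d040ce7809260173202a90c6d3d4e0102b2e5b79486adc5bda2190205254032b8074401402051548600814152d5c34b314846596b0b2d88801f040967005c201a0801b0409069379265282047249b449b84400a020461cb4c4988820148a4d320d1e20034102194598080402002410210401c20b98100544002020410801c10028200284000))
def t4x : TN := (TN.leaf (nat_lit 0x206a6626e08184102fbc02c040b4f506dd0101eb70040a8d007810293b2f45804c100e157b4a8f2861e4eab9ad600a960134dc4608134201b391f10806acadb8b0049a0167c064100cc10239800a417ae6237155f28402f28fc8100b526a882045040882000c20111a008040845a560a42e98a0c080320810420080400f0c59c1002c200302040))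
def t5x : TN := (TN.leaf (nat_lit 0x4a02d7c059000ca7011320308ca66f9dd9e012b053474056d807e4a7c3c2b77245ee4aa8700e080175c02cb8051d5388204f5402130ad4e4f0a40196a35c0812916058c529245367296916301600d0c550b3f9c40032c2a658a26ab6481022a8ee30804830020a14c020424803a1007880018a48e0408218e542008927441ca9210030200382040))
def t6x : TN := (TN.leaf (nat_lit 0x262786556f000a65016460248403608165883882054395de081499015c827561bda08145f9bb2c01c5002a800799132c42340409aa0989e9f0a0017400267aa9810242b028804e60811c20191a0103c440b895936f3840303d53e100b8201518258290142000c20119c00b344985803c40010401d08034189184002062050c61c18d24102004001))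
def tt : TN := (TN.node (TN.node (TN.node (TN.node t0x (TN.leaf (nat_lit 0))) (TN.node t4x (TN.leaf (nat_lit 0)))) (TN.node (TN.node t2x (TN.leaf (nat_lit 0))) (TN.node t6x (TN.leaf (nat_lit 0))))) (TN.node (TN.node (TN.node t1x (TN.leaf (nat_lit 0))) (TN.node t5x (TN.leaf (nat_lit 0)))) (TN.node (TN.node t3x (TN.leaf (nat_lit 0))) (TN.node (TN.leaf (nat_lit 0)) (TN.leaf (nat_lit 0))))))
noncomputable def T (j c : ℕ) : ℕ := getL tt (nat_lit 19) (nat_lit 63) j c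
noncomputable def E (j c : ℕ) : ℕ := getL tt (nat_lit 19) (nat_lit 524287) j c
theorem T_eq (j c : ℕ) : T j c = E j c % 64 :=
  getL_mod (a := 6) (b := 19) _ _ (by norm_num) (by norm_num) (by norm_num) (by norm_num) j c
def rels : List (List ℕ) := [[nat_lit 2, nat_lit 2, nat_lit 2], [nat_lit 0, nat_lit 1, nat_lit 0, nat_lit 1], [nat_lit 2, nat_lit 0, nat_lit 3, nat_lit 0], [nat_lit 2, nat_lit 1, nat_lit 3, nat_lit 1], [nat_lit 1, nat_lit 3, nat_lit 4, nat_lit 1, nat_lit 3, nat_lit 4, nat_lit 1, nat_lit 3, nat_lit 4], [nat_lit 4, nat_lit 0, nat_lit 4, nat_lit 1, nat_lit 0, nat_lit 4, nat_lit 0, nat_lit 4, nat_lit 0, nat_lit 1], [nat_lit 4, nat_lit 3, nat_lit 4, nat_lit 0, nat_lit 3, nat_lit 4, nat_lit 1, nat_lit 4, nat_lit 0, nat_lit 3, nat_lit 1], [nat_lit 5, nat_lit 1, nat_lit 2, nat_lit 4, nat_lit 0, nat_lit 5, nat_lit 3, nat_lit 1, nat_lit 4, nat_lit 3, nat_lit 4], [nat_lit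 5, nat_lit 1, nat_lit 5, nat_lit 3, nat_lit 5, nat_lit 2], [nat_lit 5, nat_lit 2, nat_lit 4, nat_lit 2, nat_lit 0, nat_lit 5, nat_lit 2, nat_lit 4, nat_lit 0, nat_lit 2], [nat_lit 5, nat_lit 0, nat_lit 3, nat_lit 5, nat_lit 4, nat_lit 1, nat_lit 5, nat_lit 0, nat_lit 2, nat_lit 4, nat_lit 3, nat_lit 0, nat_lit 1], [nat_lit 5, nat_lit 0, nat_lit 5, nat_lit 4, nat_lit 5, nat_lit 3, nat_lit 0, nat_lit 5, nat_lit 0, nat_lit 2, nat_lit 1, nat_lit 4, nat_lit 0, nat_lit 2, nat_lit 4], [nat_lit 5, nat_lit 3, nat_lit 4, nat_lit 0, nat_lit 4, nat_lit 2, nat_lit 5, nat_lit 0, nat_lit 4, nat_lit 0, nat_lit 1, nat_lit 2, nat_lit 4, nat_lit 3], [nat_lit 2, nat_lit 6, nat_lit 2, nat_lit 6, nat_lit 2, nat_lit 6], [nat_lit 4, nat_lit 6, nat_lit 4, nat_lit 6, nat_lit 4, nat_lit 6], [nat_lit 6, nat_lit 0, nat_lit 6, nat_lit 3, nat_lit 0, nat_lit 6, nat_lit 5, nat_lit 4, nat_lit 2, nat_lit 5, nat_lit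 0, nat_lit 5, nat_lit 4, nat_lit 2], [nat_lit 6, nat_lit 1, nat_lit 4, nat_lit 2, nat_lit 1, nat_lit 6, nat_lit 0, nat_lit 4, nat_lit 5, nat_lit 1, nat_lit 4, nat_lit 3, nat_lit 4], [nat_lit 6, nat_lit 1, nat_lit 6, nat_lit 2, nat_lit 1, nat_lit 6, nat_lit 1, nat_lit 4, nat_lit 5, nat_lit 0, nat_lit 4, nat_lit 2, nat_lit 4], [nat_lit 6, nat_lit 4, nat_lit 5, nat_lit 2, nat_lit 4, nat_lit 6, nat_lit 0, nat_lit 2, nat_lit 5, nat_lit 4, nat_lit 5, nat_lit 0, nat_lit 4, nat_lit 1, nat_lit 2], [nat_lit 6, nat_lit 0, nat_lit 2, nat_lit 4, nat_lit 6, nat_lit 1, nat_lit 0, nat_lit 6, nat_lit 4, nat_lit 5, nat_lit 4, nat_lit 3, nat_lit 1, nat_lit 5, nat_lit 3], [nat_lit 6, nat_lit 0, nat_lit 5, nat_lit 1, nat_lit 6, nat_lit 5, nat_lit 6, nat_lit 4, nat_lit 2, nat_lit 1, nat_lit 4, nat_lit 5, nat_lit 3, nat_lit 4, nat_lit 2, nat_lit 5]]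
def inv (i : ℕ) : ℕ := Nat.land (Nat.shiftRight (nat_lit 0xfac4c8) (Nat.mul (nat_lit 3) i)) (nat_lit 7)
def X_t : TN := (TN.leaf (nat_lit 0))
noncomputable def X (i : ℕ) : ℕ := get9 X_t (nat_lit 1) (nat_lit 1) i
def Jp_t : TN := (TN.leaf (nat_lit 0))
noncomputable def Jp (i : ℕ) : ℕ := get9 Jp_t (nat_lit 1) (nat_lit 1) i
def J_t : TN := (TN.leaf (nat_lit 0))
noncomputable def J (k : ℕ) : ℕ := getV J_t Jp k
def Pa_t : TN := (TN.leaf (nat_lit 0x16a4b39d852be95d28d2465a2c71468a2449a249123890c45a225113888440e2010f586b43521810b2859c29610d082841b1d98e8c73638b1c18c4c63630b1818aac5462230c9866c256123089846c2140aa051024813408a04080c000))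
noncomputable def Pa (i : ℕ) : ℕ := get9 Pa_t (nat_lit 13) (nat_lit 8191) i
def W_t1 : TL := (TL.node (TL.node (TL.node (TL.node (TL.node (TL.node (TL.leaf [nat_lit 2, nat_lit 2, nat_lit 3, nat_lit 3]) (TL.leaf [nat_lit 26628, nat_lit 2, nat_lit 6, nat_lit 3, nat_lit 6, nat_lit 3, nat_lit 6])) (TL.leaf [nat_lit 2051, nat_lit 1, nat_lit 0, nat_lit 1, nat_lit 0])) (TL.node (TL.node (TL.leaf [nat_lit 34833, nat_lit 5, nat_lit 0, nat_lit 4, nat_lit 2, nat_lit 4, nat_lit 6, nat_lit 1, nat_lit 6, nat_lit 2, nat_lit 1, nat_lit 6, nat_lit 1, nat_lit 4]) (TL.leaf [nat_lit 34823, nat_lit 3, nat_lit 1, nat_lit 6, nat_lit 1, nat_lit 4, nat_lit 5, nat_lit 0, nat_lit 4, nat_lit 2, nat_lit 4, nat_lit 6, nat_lit 1, nat_lit 6])) (TL.leaf [nat_lit 18451, nat_lit 3, nat_lit 5, nat_lit 2, nat_lit 4, nat_lit 2, nat_lit 0, nat_lit 5, nat_lit 2, nat_lit 4, nat_lit 0]))) (TL.node (TL.node (TL.node (TL.leaf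 [nat_lit 16385, nat_lit 5, nat_lit 1, nat_lit 5, nat_lit 3, nat_lit 5, nat_lit 2]) (TL.leaf [nat_lit 40962, nat_lit 5, nat_lit 3, nat_lit 4, nat_lit 2, nat_lit 5, nat_lit 4, nat_lit 1, nat_lit 3, nat_lit 4, nat_lit 6, nat_lit 5, nat_lit 6, nat_lit 1, nat_lit 5, nat_lit 0, nat_lit 6])) (TL.leaf [nat_lit 26627, nat_lit 6, nat_lit 2, nat_lit 6, nat_lit 2, nat_lit 6, nat_lit 2])) (TL.node (TL.leaf [nat_lit 34839, nat_lit 3, nat_lit 4, nat_lit 6, nat_lit 1, nat_lit 6, nat_lit 2, nat_lit 1, nat_lit 6, nat_lit 1, nat_lit 4, nat_lit 5, nat_lit 0, nat_lit 4]) (TL.leaf [nat_lit 10243, nat_lit 0, nat_lit 4, nat_lit 1, nat_lit 0, nat_lit 4, nat_lit 0, nat_lit 4, nat_lit 0, nat_lit 1, nat_lit 4])))) (TL.node (TL.node (TL.node (TL.node (TL.leaf [nat_lit 6147, nat_lit 1, nat_lit 3, nat_lit 1, nat_lit 2]) (TL.leaf [nat_lit 20500, nat_lit 5, nat_lit 2, nat_lit 0, nat_lit 5, nat_lit 1, nat_lit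 0, nat_lit 2, nat_lit 4, nat_lit 3, nat_lit 0, nat_lit 5, nat_lit 1, nat_lit 4])) (TL.leaf [nat_lit 6149, nat_lit 2, nat_lit 1, nat_lit 2, nat_lit 1])) (TL.node (TL.leaf [nat_lit 1, nat_lit 3, nat_lit 2, nat_lit 2]) (TL.leaf [nat_lit 14347, nat_lit 5, nat_lit 3, nat_lit 1, nat_lit 4, nat_lit 3, nat_lit 4, nat_lit 5, nat_lit 1, nat_lit 2, nat_lit 4, nat_lit 0]))) (TL.node (TL.node (TL.node (TL.leaf [nat_lit 36890, nat_lit 5, nat_lit 4, nat_lit 6, nat_lit 3, nat_lit 1, nat_lit 4, nat_lit 0, nat_lit 5, nat_lit 4, nat_lit 5, nat_lit 3, nat_lit 0, nat_lit 6, nat_lit 4, nat_lit 3]) (TL.leaf [nat_lit 32771, nat_lit 1, nat_lit 4, nat_lit 2, nat_lit 1, nat_lit 6, nat_lit 0, nat_lit 4, nat_lit 5, nat_lit 1, nat_lit 4, nat_lit 3, nat_lit 4, nat_lit 6])) (TL.leaf [nat_lit 18440, nat_lit 2, nat_lit 5, nat_lit 0, nat_lit 3, nat_lit 4, nat_lit 3, nat_lit 5, nat_lit 3, nat_lit 0, nat_lit 4]))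 (TL.node (TL.leaf [nat_lit 16387, nat_lit 1, nat_lit 5, nat_lit 3, nat_lit 5, nat_lit 2, nat_lit 5]) (TL.leaf [nat_lit 32787, nat_lit 1, nat_lit 4, nat_lit 3, nat_lit 4, nat_lit 6, nat_lit 1, nat_lit 4, nat_lit 2, nat_lit 1, nat_lit 6, nat_lit 0, nat_lit 4, nat_lit 5]))))) (TL.node (TL.node (TL.node (TL.node (TL.node (TL.leaf [nat_lit 4099, nat_lit 0, nat_lit 3, nat_lit 0, nat_lit 2]) (TL.leaf [nat_lit 8197, nat_lit 4, nat_lit 1, nat_lit 3, nat_lit 4, nat_lit 1, nat_lit 3, nat_lit 4, nat_lit 1, nat_lit 3])) (TL.leaf [nat_lit 12301, nat_lit 1, nat_lit 4, nat_lit 0, nat_lit 3, nat_lit 1, nat_lit 4, nat_lit 3, nat_lit 4, nat_lit 0, nat_lit 3, nat_lit 4])) (TL.node (TL.node (TL.leaf [nat_lit 16393, nat_lit 5, nat_lit 2, nat_lit 5, nat_lit 1, nat_lit 5, nat_lit 3]) (TL.leaf [nat_lit 36879, nat_lit 3, nat_lit 5, nat_lit 4, nat_lit 5, nat_lit 0, nat_lit 4, nat_lit 1, nat_lit 2, nat_lit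 6, nat_lit 4, nat_lit 5, nat_lit 2, nat_lit 4, nat_lit 6, nat_lit 0])) (TL.leaf [nat_lit 30723, nat_lit 0, nat_lit 6, nat_lit 3, nat_lit 0, nat_lit 6, nat_lit 5, nat_lit 4, nat_lit 2, nat_lit 5, nat_lit 0, nat_lit 5, nat_lit 4, nat_lit 2, nat_lit 6]))) (TL.node (TL.node (TL.node (TL.leaf [nat_lit 34838, nat_lit 6, nat_lit 1, nat_lit 6, nat_lit 4, nat_lit 3, nat_lit 4, nat_lit 0, nat_lit 5, nat_lit 4, nat_lit 1, nat_lit 6, nat_lit 1, nat_lit 3]) (TL.leaf [nat_lit 40990, nat_lit 0, nat_lit 6, nat_lit 5, nat_lit 3, nat_lit 4, nat_lit 2, nat_lit 5, nat_lit 4, nat_lit 1, nat_lit 3, nat_lit 4, nat_lit 6, nat_lit 5, nat_lit 6, nat_lit 1, nat_lit 5])) (TL.leaf [nat_lit 24586, nat_lit 0, nat_lit 4, nat_lit 0, nat_lit 5, nat_lit 3, nat_lit 4, nat_lit 0, nat_lit 4, nat_lit 2, nat_lit 5, nat_lit 2, nat_lit 4, nat_lit 3, nat_lit 1])) (TL.node (TL.leaf [nat_lit 8193, nat_lit 1, nat_lit 3, nat_lit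 4, nat_lit 1, nat_lit 3, nat_lit 4, nat_lit 1, nat_lit 3, nat_lit 4]) (TL.leaf [nat_lit 22535, nat_lit 4, nat_lit 5, nat_lit 3, nat_lit 0, nat_lit 5, nat_lit 0, nat_lit 2, nat_lit 1, nat_lit 4, nat_lit 0, nat_lit 2, nat_lit 4, nat_lit 5, nat_lit 0, nat_lit 5])))) (TL.node (TL.node (TL.node (TL.node (TL.leaf [nat_lit 26626, nat_lit 6, nat_lit 3, nat_lit 6, nat_lit 3, nat_lit 6, nat_lit 3]) (TL.leaf [nat_lit 20481, nat_lit 5, nat_lit 0, nat_lit 3, nat_lit 5, nat_lit 4, nat_lit 1, nat_lit 5, nat_lit 0, nat_lit 2, nat_lit 4, nat_lit 3, nat_lit 0, nat_lit 1])) (TL.leaf [nat_lit 12310, nat_lit 4, nat_lit 1, nat_lit 2, nat_lit 0, nat_lit 4, nat_lit 1, nat_lit 4, nat_lit 2, nat_lit 0, nat_lit 4, nat_lit 2])) (TL.node (TL.leaf [nat_lit 18439, nat_lit 3, nat_lit 0, nat_lit 5, nat_lit 2, nat_lit 4, nat_lit 0, nat_lit 2, nat_lit 5, nat_lit 2, nat_lit 4]) (TL.leaf [nat_lit 38919, nat_lit 4,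 nat_lit 6, nat_lit 1, nat_lit 0, nat_lit 6, nat_lit 4, nat_lit 5, nat_lit 4, nat_lit 3, nat_lit 1, nat_lit 5, nat_lit 3, nat_lit 6, nat_lit 0, nat_lit 2]))) (TL.node (TL.node (TL.node (TL.leaf [nat_lit 26625, nat_lit 3, nat_lit 6, nat_lit 2, nat_lit 6, nat_lit 2, nat_lit 6]) (TL.leaf [nat_lit 22551, nat_lit 4, nat_lit 0, nat_lit 2, nat_lit 4, nat_lit 5, nat_lit 0, nat_lit 5, nat_lit 4, nat_lit 5, nat_lit 3, nat_lit 0, nat_lit 5, nat_lit 0, nat_lit 2, nat_lit 1])) (TL.leaf [nat_lit 20487, nat_lit 5, nat_lit 4, nat_lit 1, nat_lit 5, nat_lit 0, nat_lit 2, nat_lit 4, nat_lit 3, nat_lit 0, nat_lit 1, nat_lit 5, nat_lit 0, nat_lit 3])) (TL.node (TL.leaf [nat_lit 30748, nat_lit 6, nat_lit 3, nat_lit 4, nat_lit 5, nat_lit 0, nat_lit 5, nat_lit 3, nat_lit 4, nat_lit 5, nat_lit 6, nat_lit 0, nat_lit 2, nat_lit 6, nat_lit 0]) (TL.leaf [nat_lit 38928, nat_lit 6, nat_lit 0, nat_lit 1, nat_lit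 6, nat_lit 4, nat_lit 3, nat_lit 0, nat_lit 6, nat_lit 2, nat_lit 5, nat_lit 1, nat_lit 2, nat_lit 4, nat_lit 5, nat_lit 4]))))))
def W_t2 : TL := (TL.node (TL.node (TL.node (TL.node (TL.node (TL.node (TL.leaf [nat_lit 2049, nat_lit 0, nat_lit 1, nat_lit 0, nat_lit 1]) (TL.leaf [nat_lit 34835, nat_lit 0, nat_lit 4, nat_lit 2, nat_lit 4, nat_lit 6, nat_lit 1, nat_lit 6, nat_lit 2, nat_lit 1, nat_lit 6, nat_lit 1, nat_lit 4, nat_lit 5])) (TL.leaf [nat_lit 18447, nat_lit 4, nat_lit 0, nat_lit 2, nat_lit 5, nat_lit 2, nat_lit 4, nat_lit 2, nat_lit 0, nat_lit 5, nat_lit 2])) (TL.node (TL.node (TL.leaf [nat_lit 6145, nat_lit 3, nat_lit 1, nat_lit 3, nat_lit 1]) (TL.leaf [nat_lit 40971, nat_lit 5, nat_lit 6, nat_lit 4, nat_lit 2, nat_lit 1, nat_lit 4, nat_lit 5, nat_lit 3, nat_lit 4, nat_lit 2, nat_lit 5, nat_lit 6, nat_lit 0, nat_lit 5, nat_lit 1, nat_lit 6])) (TL.leaf [nat_lit 20491,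 nat_lit 1, nat_lit 5, nat_lit 0, nat_lit 2, nat_lit 4, nat_lit 3, nat_lit 0, nat_lit 1, nat_lit 5, nat_lit 0, nat_lit 3, nat_lit 5, nat_lit 4]))) (TL.node (TL.node (TL.node (TL.leaf [nat_lit 32790, nat_lit 4, nat_lit 1, nat_lit 6, nat_lit 4, nat_lit 2, nat_lit 4, nat_lit 1, nat_lit 5, nat_lit 4, nat_lit 0, nat_lit 6, nat_lit 1, nat_lit 3]) (TL.leaf [nat_lit 18437, nat_lit 4, nat_lit 2, nat_lit 0, nat_lit 5, nat_lit 2, nat_lit 4, nat_lit 0, nat_lit 2, nat_lit 5, nat_lit 2])) (TL.leaf [nat_lit 34817, nat_lit 6, nat_lit 1, nat_lit 6, nat_lit 2, nat_lit 1, nat_lit 6, nat_lit 1, nat_lit 4, nat_lit 5, nat_lit 0, nat_lit 4, nat_lit 2, nat_lit 4])) (TL.node (TL.leaf [nat_lit 4097, nat_lit 3, nat_lit 0, nat_lit 3, nat_lit 0]) (TL.leaf [nat_lit 38931, nat_lit 5, nat_lit 4, nat_lit 3, nat_lit 1, nat_lit 5, nat_lit 3, nat_lit 6, nat_lit 0, nat_lit 2, nat_lit 4, nat_lit 6, nat_lit 1, nat_lit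 0, nat_lit 6, nat_lit 4])))) (TL.node (TL.node (TL.node (TL.node (TL.leaf [nat_lit 6151, nat_lit 1, nat_lit 2, nat_lit 1, nat_lit 3]) (TL.leaf [nat_lit 18448, nat_lit 4, nat_lit 3, nat_lit 5, nat_lit 3, nat_lit 0, nat_lit 4, nat_lit 3, nat_lit 5, nat_lit 0, nat_lit 3])) (TL.leaf [nat_lit 18442, nat_lit 5, nat_lit 0, nat_lit 3, nat_lit 4, nat_lit 3, nat_lit 5, nat_lit 3, nat_lit 0, nat_lit 4, nat_lit 3])) (TL.node (TL.leaf [nat_lit 16395, nat_lit 3, nat_lit 5, nat_lit 1, nat_lit 5, nat_lit 3, nat_lit 5]) (TL.leaf [nat_lit 32784, nat_lit 6, nat_lit 1, nat_lit 3, nat_lit 4, nat_lit 1, nat_lit 6, nat_lit 4, nat_lit 2, nat_lit 4, nat_lit 1, nat_lit 5, nat_lit 4, nat_lit 0]))) (TL.node (TL.node (TL.node (TL.leaf [nat_lit 40986, nat_lit 1, nat_lit 5, nat_lit 0, nat_lit 6, nat_lit 5, nat_lit 3, nat_lit 4, nat_lit 2, nat_lit 5, nat_lit 4, nat_lit 1, nat_lit 3, nat_lit 4, nat_lit 6, nat_lit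 5, nat_lit 6]) (TL.leaf [nat_lit 30725, nat_lit 6, nat_lit 3, nat_lit 0, nat_lit 6, nat_lit 5, nat_lit 4, nat_lit 2, nat_lit 5, nat_lit 0, nat_lit 5, nat_lit 4, nat_lit 2, nat_lit 6, nat_lit 0])) (TL.leaf [nat_lit 10255, nat_lit 4, nat_lit 0, nat_lit 1, nat_lit 4, nat_lit 0, nat_lit 4, nat_lit 1, nat_lit 0, nat_lit 4, nat_lit 0])) (TL.node (TL.leaf [nat_lit 14338, nat_lit 4, nat_lit 2, nat_lit 4, nat_lit 1, nat_lit 2, nat_lit 5, nat_lit 0, nat_lit 4, nat_lit 3, nat_lit 1, nat_lit 5]) (TL.leaf [nat_lit 22558, nat_lit 5, nat_lit 4, nat_lit 3, nat_lit 0, nat_lit 4, nat_lit 1, nat_lit 3, nat_lit 0, nat_lit 5, nat_lit 0, nat_lit 2, nat_lit 5, nat_lit 4, nat_lit 5, nat_lit 0]))))) (TL.node (TL.node (TL.node (TL.node (TL.node (TL.leaf [nat_lit 4103, nat_lit 0, nat_lit 2, nat_lit 0, nat_lit 3]) (TL.leaf [nat_lit 14340, nat_lit 3, nat_lit 4, nat_lit 1, nat_lit 2, nat_lit 5, nat_lit 0,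 nat_lit 4, nat_lit 3, nat_lit 1, nat_lit 5, nat_lit 4])) (TL.leaf [nat_lit 32780, nat_lit 4, nat_lit 0, nat_lit 6, nat_lit 1, nat_lit 3, nat_lit 4, nat_lit 1, nat_lit 6, nat_lit 4, nat_lit 2, nat_lit 4, nat_lit 1, nat_lit 5])) (TL.node (TL.node (TL.leaf [nat_lit 36881, nat_lit 5, nat_lit 4, nat_lit 5, nat_lit 0, nat_lit 4, nat_lit 1, nat_lit 2, nat_lit 6, nat_lit 4, nat_lit 5, nat_lit 2, nat_lit 4, nat_lit 6, nat_lit 0, nat_lit 2]) (TL.leaf [nat_lit 36893, nat_lit 3, nat_lit 6, nat_lit 4, nat_lit 5, nat_lit 2, nat_lit 4, nat_lit 6, nat_lit 0, nat_lit 2, nat_lit 5, nat_lit 4, nat_lit 5, nat_lit 0, nat_lit 4, nat_lit 1])) (TL.leaf [nat_lit 36883, nat_lit 4, nat_lit 5, nat_lit 0, nat_lit 4, nat_lit 1, nat_lit 2, nat_lit 6, nat_lit 4, nat_lit 5, nat_lit 2, nat_lit 4, nat_lit 6, nat_lit 0, nat_lit 2, nat_lit 5]))) (TL.node (TL.node (TL.node (TL.leaf [nat_lit 30744, nat_lit 6, nat_lit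 0, nat_lit 6, nat_lit 3, nat_lit 4, nat_lit 5, nat_lit 0, nat_lit 5, nat_lit 3, nat_lit 4, nat_lit 5, nat_lit 6, nat_lit 0, nat_lit 2]) (TL.leaf [nat_lit 32769, nat_lit 6, nat_lit 1, nat_lit 4, nat_lit 2, nat_lit 1, nat_lit 6, nat_lit 0, nat_lit 4, nat_lit 5, nat_lit 1, nat_lit 4, nat_lit 3, nat_lit 4])) (TL.leaf [nat_lit 28673, nat_lit 4, nat_lit 6, nat_lit 4, nat_lit 6, nat_lit 4, nat_lit 6])) (TL.node (TL.leaf [nat_lit 14337, nat_lit 5, nat_lit 1, nat_lit 2, nat_lit 4, nat_lit 0, nat_lit 5, nat_lit 3, nat_lit 1, nat_lit 4, nat_lit 3, nat_lit 4]) (TL.leaf [nat_lit 8194, nat_lit 4, nat_lit 2, nat_lit 1, nat_lit 4, nat_lit 2, nat_lit 1, nat_lit 4, nat_lit 2, nat_lit 1])))) (TL.node (TL.node (TL.node (TL.node (TL.leaf [nat_lit 28675, nat_lit 6, nat_lit 4, nat_lit 6, nat_lit 4, nat_lit 6, nat_lit 4]) (TL.leaf [nat_lit 20505, nat_lit 1, nat_lit 5, nat_lit 0, nat_lit 3, nat_lit 5,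 nat_lit 4, nat_lit 1, nat_lit 5, nat_lit 0, nat_lit 2, nat_lit 4, nat_lit 3, nat_lit 0])) (TL.leaf [nat_lit 16389, nat_lit 5, nat_lit 3, nat_lit 5, nat_lit 2, nat_lit 5, nat_lit 1])) (TL.node (TL.leaf [nat_lit 18449, nat_lit 0, nat_lit 2, nat_lit 5, nat_lit 2, nat_lit 4, nat_lit 2, nat_lit 0, nat_lit 5, nat_lit 2, nat_lit 4]) (TL.leaf [nat_lit 10251, nat_lit 4, nat_lit 0, nat_lit 4, nat_lit 0, nat_lit 1, nat_lit 4, nat_lit 0, nat_lit 4, nat_lit 1, nat_lit 0]))) (TL.node (TL.node (TL.node (TL.leaf [nat_lit 8198, nat_lit 1, nat_lit 4, nat_lit 2, nat_lit 1, nat_lit 4, nat_lit 2, nat_lit 1, nat_lit 4, nat_lit 2]) (TL.leaf [nat_lit 32781, nat_lit 0, nat_lit 4, nat_lit 5, nat_lit 1, nat_lit 4, nat_lit 3, nat_lit 4, nat_lit 6, nat_lit 1, nat_lit 4, nat_lit 2, nat_lit 1, nat_lit 6])) (TL.leaf [nat_lit 22550, nat_lit 5, nat_lit 4, nat_lit 5, nat_lit 0, nat_lit 5, nat_lit 4, nat_lit 3,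 nat_lit 0, nat_lit 4, nat_lit 1, nat_lit 3, nat_lit 0, nat_lit 5, nat_lit 0, nat_lit 2])) (TL.node (TL.leaf [nat_lit 38929, nat_lit 4, nat_lit 5, nat_lit 4, nat_lit 3, nat_lit 1, nat_lit 5, nat_lit 3, nat_lit 6, nat_lit 0, nat_lit 2, nat_lit 4, nat_lit 6, nat_lit 1, nat_lit 0, nat_lit 6]) (TL.leaf [nat_lit 38913, nat_lit 6, nat_lit 0, nat_lit 2, nat_lit 4, nat_lit 6, nat_lit 1, nat_lit 0, nat_lit 6, nat_lit 4, nat_lit 5, nat_lit 4, nat_lit 3, nat_lit 1, nat_lit 5, nat_lit 3]))))))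
def W_t : TL := (TL.node W_t1 W_t2)
noncomputable def W (i : ℕ) : List ℕ := TL.get W_t i
def WA_t : TL := (TL.leaf [nat_lit 0])
noncomputable def WA (i : ℕ) : List ℕ := TL.get WA_t i
noncomputable def row : ℕ → ℕ := hRow (nat_lit 56) (nat_lit 7) (nat_lit 6) (nat_lit 64) (nat_lit 128) (nat_lit 8192) (nat_lit 1024) (nat_lit 1024) (nat_lit 0) E X Pa inv (wfun (nat_lit 84) W_t)
noncomputable def aux : ℕ → ℕ := hAux (nat_lit 57) (nat_lit 7) (nat_lit 64) (nat_lit 8192) (nat_lit 1024) (nat_lit 2) (nat_lit 2) (nat_lit 1024) (nat_lit 0) E X J Pa inv WA_t.get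
theorem r0 : Nat.beq (rng row (nat_lit 0) (nat_lit 57)) (nat_lit 0) = true := by decide +kernel
theorem rows : ∀ i < 57, row i = 0 := by
  have h := zero_lt_zero row
  have h := zero_lt_add (a := (nat_lit 0)) (n := (nat_lit 57)) (b := (nat_lit 57)) h r0 rfl
  exact h
theorem auxs : ∀ i < 0, aux i = 0 := by
  have h := zero_lt_zero aux
  exact h
theorem closes.{u} : ClosesT.{u} inv rels 7 6 57 T :=
  hc_closes (N1 := (nat_lit 56)) rfl T_eq (by decide +kernel) rows auxs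
theorem T_inv : ∀ c < 57, ∀ j < 7, T j c < 57 ∧ T (inv j) (T j c) = c := 
  hc_inv (inv := inv) (N1 := (nat_lit 56)) rfl T_eq rows
end L5

def rels : List (List ℕ) := [[nat_lit 2, nat_lit 2, nat_lit 2], [nat_lit 0, nat_lit 1, nat_lit 0, nat_lit 1], [nat_lit 2, nat_lit 0, nat_lit 3, nat_lit 0], [nat_lit 2, nat_lit 1, nat_lit 3, nat_lit 1], [nat_lit 1, nat_lit 3, nat_lit 4, nat_lit 1, nat_lit 3, nat_lit 4, nat_lit 1, nat_lit 3, nat_lit 4], [nat_lit 4, nat_lit 0, nat_lit 4, nat_lit 1, nat_lit 0, nat_lit 4, nat_lit 0, nat_lit 4, nat_lit 0, nat_lit 1], [nat_lit 4, nat_lit 3, nat_lit 4, nat_lit 0, nat_lit 3, nat_lit 4, nat_lit 1, nat_lit 4, nat_lit 0, nat_lit 3, nat_lit 1], [nat_lit 5, nat_lit 1, nat_lit 2, nat_lit 4, nat_lit 0, nat_lit 5, nat_lit 3, nat_lit 1, nat_lit 4, nat_lit 3, nat_lit 4], [nat_lit 5, nat_lit 1, nat_lit 5, nat_lit 3, nat_lit 5, nat_lit 2], [nat_lit 5, nat_lit 2,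 nat_lit 4, nat_lit 2, nat_lit 0, nat_lit 5, nat_lit 2, nat_lit 4, nat_lit 0, nat_lit 2], [nat_lit 5, nat_lit 0, nat_lit 3, nat_lit 5, nat_lit 4, nat_lit 1, nat_lit 5, nat_lit 0, nat_lit 2, nat_lit 4, nat_lit 3, nat_lit 0, nat_lit 1], [nat_lit 5, nat_lit 0, nat_lit 5, nat_lit 4, nat_lit 5, nat_lit 3, nat_lit 0, nat_lit 5, nat_lit 0, nat_lit 2, nat_lit 1, nat_lit 4, nat_lit 0, nat_lit 2, nat_lit 4], [nat_lit 5, nat_lit 3, nat_lit 4, nat_lit 0, nat_lit 4, nat_lit 2, nat_lit 5, nat_lit 0, nat_lit 4, nat_lit 0, nat_lit 1, nat_lit 2, nat_lit 4, nat_lit 3], [nat_lit 2, nat_lit 6, nat_lit 2, nat_lit 6, nat_lit 2, nat_lit 6], [nat_lit 4, nat_lit 6, nat_lit 4, nat_lit 6, nat_lit 4, nat_lit 6], [nat_lit 6, nat_lit 0, nat_lit 6, nat_lit 3, nat_lit 0, nat_lit 6, nat_lit 5, nat_lit 4, nat_lit 2, nat_lit 5, nat_lit 0, nat_lit 5, nat_lit 4, nat_lit 2], [nat_lit 6, nat_lit 1, nat_lit 4, nat_lit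 2, nat_lit 1, nat_lit 6, nat_lit 0, nat_lit 4, nat_lit 5, nat_lit 1, nat_lit 4, nat_lit 3, nat_lit 4], [nat_lit 6, nat_lit 1, nat_lit 6, nat_lit 2, nat_lit 1, nat_lit 6, nat_lit 1, nat_lit 4, nat_lit 5, nat_lit 0, nat_lit 4, nat_lit 2, nat_lit 4], [nat_lit 6, nat_lit 4, nat_lit 5, nat_lit 2, nat_lit 4, nat_lit 6, nat_lit 0, nat_lit 2, nat_lit 5, nat_lit 4, nat_lit 5, nat_lit 0, nat_lit 4, nat_lit 1, nat_lit 2], [nat_lit 6, nat_lit 0, nat_lit 2, nat_lit 4, nat_lit 6, nat_lit 1, nat_lit 0, nat_lit 6, nat_lit 4, nat_lit 5, nat_lit 4, nat_lit 3, nat_lit 1, nat_lit 5, nat_lit 3], [nat_lit 6, nat_lit 0, nat_lit 5, nat_lit 1, nat_lit 6, nat_lit 5, nat_lit 6, nat_lit 4, nat_lit 2, nat_lit 1, nat_lit 4, nat_lit 5, nat_lit 3, nat_lit 4, nat_lit 2, nat_lit 5]]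
def inv (i : ℕ) : ℕ := Nat.land (Nat.shiftRight (nat_lit 0x1ac4c8) (Nat.mul (nat_lit 3) i)) (nat_lit 7)
theorem ub1 {Γ : Type} [Group Γ] {g : ℕ → Γ} (h1 : InvOK g inv 7) (h2 : ∀ w ∈ rels, ev g w = 1) : CardLE (gen g 1) 2 :=
  tw h1 h2 L1.closes (by decide +kernel) (cardLE_gen_zero g)
theorem ub4 {Γ : Type} [Group Γ] {g : ℕ → Γ} (h1 : InvOK g inv 7) (h2 : ∀ w ∈ rels, ev g w = 1) : CardLE (gen g 4) 12 :=
  tw h1 h2 L2.closes (by decide +kernel) (ub1 h1 h2)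
theorem ub5 {Γ : Type} [Group Γ] {g : ℕ → Γ} (h1 : InvOK g inv 7) (h2 : ∀ w ∈ rels, ev g w = 1) : CardLE (gen g 5) 588 :=
  tw h1 h2 L3.closes (by decide +kernel) (ub4 h1 h2)
theorem ub6 {Γ : Type} [Group Γ] {g : ℕ → Γ} (h1 : InvOK g inv 7) (h2 : ∀ w ∈ rels, ev g w = 1) : CardLE (gen g 6) 32928 :=
  tw h1 h2 L4.closes (by decide +kernel) (ub5 h1 h2)
theorem ub7 {Γ : Type} [Group Γ] {g : ℕ → Γ} (h1 : InvOK g inv 7) (h2 : ∀ w ∈ rels, ev g w = 1) : CardLE (gen g 7) 1876896 :=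
  tw h1 h2 L5.closes (by decide +kernel) (ub6 h1 h2)

end Cfsg.Agent.Ct.L37
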